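import Groth.Prelude.Def_W4c6stackyreslrsPsRefl
import Groth.Agent.Lib.Comod.Coeff
import Groth.Agent.Lib.Hopf.FiniteRank

/-!
# Vectors fixed by generating subgroup schemes; coefficients in a basis
-/

universe u v

open TensorProduct HopfRep

namespace GrothLib.PsRefl

variable {k : Type u} [Field k]

section Coef

variable {B : Type u} [AddCommGroup B] [Module k B] {ι : Type*} (b : Module.Basis ι k B)
  {V W : Type*} [AddCommGroup V] [Module k V] [AddCommGroup W] [Module k W]

open Classical in
/-- the coefficient at a basis vector -/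
noncomputable def coef (j : ι) : V ⊗[k] B →ₗ[k] V :=
  Finsupp.lapply j ∘ₗ (TensorProduct.equivFinsuppOfBasisRight b).toLinearMap

theorem coef_tmul (j : ι) (v : V) (x : B) : coef b j (v ⊗ₜ[k] x) = b.repr x j • v := by
  classical
  simp [coef]

theorem coef_rTensor (j : ι) (f : V →ₗ[k] W) (t : V ⊗[k] B) :
    coef b j (f.rTensor B t) = f (coef b j t) := by
  induction t using TensorProduct.induction_on with
  | zero => simp
  | tmul p q => simp [coef_tmul]
  | add p q hp hq => simp only [map_add, hp, hq]

theorem eq_zero_of_coef {t : V ⊗[k] B} (h : ∀ j, coef b j t = 0) : t = 0 := by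
  classical
  refine (TensorProduct.equivFinsuppOfBasisRight b).injective (Finsupp.ext fun j => ?_)
  rw [map_zero]
  exact h j

end Coef

section Fix

variable {A : Type u} [CommRing A] [HopfAlgebra k A] {V : Type u} [AddCommGroup V] [Module k V]
  [Comod k A V]

/-- vectors of a subcomodule fixed by a family of closed subgroup schemes generating the group are fixed -/
theorem fixed_of_gen (P : Ideal A → Prop)
    (hgen : ∀ J : Ideal A, J.IsHopfIdeal k → (∀ I, P I → J ≤ I) → J = ⊥)
    {U : Submodule k V} (hU : IsSubcomod (k := k) (A := A) U)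
    (hfix : ∀ I, P I → ∀ u ∈ U, (Ideal.Quotient.mkₐ k I).toLinearMap.lTensor V
      (Comod.coact (k := k) (A := A) u) = u ⊗ₜ[k] (1 : A ⧸ I)) :
    ∀ u ∈ U, Comod.coact (k := k) (A := A) u = u ⊗ₜ[k] (1 : A) := by
  let s : Set A := {a | ∃ (φ : Module.Dual k V) (u : V), u ∈ U ∧
    a = GrothLib.Comodule.cfMap φ u - algebraMap k A (φ u)}
  let J : Ideal A := Ideal.span s
  -- modulo `J` the coefficients are constant
  let π := Ideal.Quotient.mkₐ k J
  have hπ : ∀ (φ : Module.Dual k V) (u : V), u ∈ U →
      π (GrothLib.Comodule.cfMap φ u) = algebraMap k (A ⧸ J) (φ u) := fun φ u hu => by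
    rw [← sub_eq_zero, ← π.commutes (φ u), ← map_sub]
    exact Ideal.Quotient.eq_zero_iff_mem.2 (Ideal.subset_span ⟨φ, u, hu, rfl⟩)
  have hcomul : ∀ (φ : Module.Dual k V) (u : V), Coalgebra.comul (R := k) (GrothLib.Comodule.cfMap (C := A) φ u) =
      (GrothLib.Comodule.cfMap φ).rTensor A (Comod.coact (k := k) (A := A) u) := fun φ u =>
    GrothLib.Comodule.IsComodHom.apply (GrothLib.Comodule.isComodHom_cfMap φ) u
  have hJ : J.IsHopfIdeal k := by
    refine GrothLib.Hopf.FiniteRank.isHopfIdeal_of J ?_ ?_ ?_
    · refine Ideal.span_le.2 ?_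
      rintro _ ⟨φ, u, -, rfl⟩
      show Bialgebra.counitAlgHom k A _ = 0
      rw [map_sub, AlgHom.commutes]
      show Coalgebra.counit (R := k) (GrothLib.Comodule.cfMap φ u) - φ u = 0
      rw [GrothLib.Comodule.counit_cfMap, sub_self]
    · intro x hx
      have hle : J ≤ RingHom.ker ((Algebra.TensorProduct.map π π).comp (Bialgebra.comulAlgHom k A)) := by
        refine Ideal.span_le.2 ?_
        rintro _ ⟨φ, u, hu, rfl⟩
        show ((Algebra.TensorProduct.map π π).comp (Bialgebra.comulAlgHom k A)) _ = 0
        rw [map_sub, AlgHom.commutes, AlgHom.comp_apply, sub_eq_zero]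
        show Algebra.TensorProduct.map π π (Coalgebra.comul (R := k) (GrothLib.Comodule.cfMap φ u)) = _
        rw [hcomul]
        obtain ⟨y, hy⟩ := hU u hu
        have key : ∀ z : U ⊗[k] A, Algebra.TensorProduct.map π π
            ((GrothLib.Comodule.cfMap φ).rTensor A (U.subtype.rTensor A z)) =
              (1 : A ⧸ J) ⊗ₜ[k] π (TensorProduct.lid k A (φ.rTensor A (U.subtype.rTensor A z))) := fun z => by
          induction z using TensorProduct.induction_on with
          | zero => simp
          | add p q hp hq => simp only [map_add, TensorProduct.tmul_add, hp, hq]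
          | tmul p a =>
            simp only [LinearMap.rTensor_tmul, Submodule.subtype_apply, Algebra.TensorProduct.map_tmul,
              TensorProduct.lid_tmul, map_smul]
            rw [hπ φ p p.2, Algebra.algebraMap_eq_smul_one, TensorProduct.smul_tmul]
        rw [← hy, key, hy, ← GrothLib.Comodule.cfMap_apply, hπ φ u hu,
          Algebra.TensorProduct.algebraMap_apply, Algebra.algebraMap_eq_smul_one, TensorProduct.smul_tmul]
      exact hle hx
    · intro x hx
      have hle : J ≤ RingHom.ker (π.comp (HopfAlgebra.antipodeAlgHom k A)) := by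
        refine Ideal.span_le.2 ?_
        rintro _ ⟨φ, u, hu, rfl⟩
        show (π.comp (HopfAlgebra.antipodeAlgHom k A)) _ = 0
        rw [map_sub, AlgHom.commutes, AlgHom.comp_apply, sub_eq_zero]
        show π (HopfAlgebraStruct.antipode k (GrothLib.Comodule.cfMap φ u)) = _
        obtain ⟨y, hy⟩ := hU u hu
        have key : ∀ z : U ⊗[k] A, π (LinearMap.mul' k A ((HopfAlgebraStruct.antipode k (A := A)).lTensor A
            ((GrothLib.Comodule.cfMap φ).rTensor A (U.subtype.rTensor A z)))) =
              π (HopfAlgebraStruct.antipode k (TensorProduct.lid k A (φ.rTensor A (U.subtype.rTensor A z)))) := fun z => by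
          induction z using TensorProduct.induction_on with
          | zero => simp
          | add p q hp hq => simp only [map_add, hp, hq]
          | tmul p a =>
            simp only [LinearMap.rTensor_tmul, LinearMap.lTensor_tmul, LinearMap.mul'_apply,
              Submodule.subtype_apply, TensorProduct.lid_tmul, map_smul, map_mul]
            rw [hπ φ p p.2, ← Algebra.smul_def]
        have h := key y
        rw [hy, ← hcomul, HopfAlgebra.mul_antipode_lTensor_comul_apply, AlgHom.commutes,
          GrothLib.Comodule.counit_cfMap, ← GrothLib.Comodule.cfMap_apply] at h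
        exact h.symm
      exact Ideal.Quotient.eq_zero_iff_mem.1 (hle hx)
  have hbot : J = ⊥ := by
    refine hgen J hJ fun I hI => Ideal.span_le.2 ?_
    rintro _ ⟨φ, u, hu, rfl⟩
    rw [SetLike.mem_coe, ← Ideal.Quotient.eq_zero_iff_mem, map_sub, sub_eq_zero]
    have h : ∀ t : V ⊗[k] A, Ideal.Quotient.mk I (TensorProduct.lid k A (φ.rTensor A t)) =
        TensorProduct.lid k (A ⧸ I) (φ.rTensor (A ⧸ I) ((Ideal.Quotient.mkₐ k I).toLinearMap.lTensor V t)) :=
      fun t => by
        induction t using TensorProduct.induction_on with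
        | zero => simp
        | add p q hp hq => simp only [map_add, hp, hq]
        | tmul p a =>
          simp only [LinearMap.rTensor_tmul, LinearMap.lTensor_tmul, TensorProduct.lid_tmul]
          exact map_smul (Ideal.Quotient.mkₐ k I) _ a
    rw [GrothLib.Comodule.cfMap_apply, h, hfix I hI u hu, LinearMap.rTensor_tmul, TensorProduct.lid_tmul,
      ← Algebra.algebraMap_eq_smul_one]
    rfl
  intro u hu
  refine GrothLib.Comodule.ext_dual_left fun φ => ?_
  have h : GrothLib.Comodule.cfMap φ u - algebraMap k A (φ u) ∈ J := Ideal.subset_span ⟨φ, u, hu, rfl⟩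
  rw [hbot, Ideal.mem_bot, sub_eq_zero, GrothLib.Comodule.cfMap_apply] at h
  rw [h, LinearMap.rTensor_tmul, TensorProduct.lid_tmul, Algebra.algebraMap_eq_smul_one]

end Fix

end GrothLib.PsRefl
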