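import Groth.Agent.Lib.PsRefl.Fix

/-!
# The closed subgroup scheme fixing a set of vectors
-/

universe u

open TensorProduct HopfRep

namespace GrothLib.PsRefl

variable {k : Type u} [Field k] {A : Type u} [CommRing A] [HopfAlgebra k A] {V : Type u} [AddCommGroup V]
  [Module k V] [Comod k A V]

/-- the subgroup scheme fixing a set of vectors is cut out by a Hopf ideal -/
theorem exists_stabilizer (U : Set V) :
    ∃ J : Ideal A, J.IsHopfIdeal k ∧
      (∀ u ∈ U, u ∈ GLin.quotInvariants k A V J) ∧
      ∀ I : Ideal A, (∀ u ∈ U, u ∈ GLin.quotInvariants k A V I) → J ≤ I := by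
  let s : Set A := {a | ∃ (φ : Module.Dual k V) (u : V), u ∈ U ∧
    a = GrothLib.Comodule.cfMap φ u - algebraMap k A (φ u)}
  let J : Ideal A := Ideal.span s
  let π := Ideal.Quotient.mkₐ k J
  have hlid : ∀ (I : Ideal A) (φ : Module.Dual k V) (t : V ⊗[k] A),
      Ideal.Quotient.mkₐ k I (TensorProduct.lid k A (φ.rTensor A t)) =
        TensorProduct.lid k (A ⧸ I) (φ.rTensor (A ⧸ I) ((Ideal.Quotient.mkₐ k I).toLinearMap.lTensor V t)) :=
    fun I φ t => by
      induction t using TensorProduct.induction_on with
      | zero => simp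
      | add p q hp hq => simp only [map_add, hp, hq]
      | tmul p a =>
        simp only [LinearMap.rTensor_tmul, LinearMap.lTensor_tmul, TensorProduct.lid_tmul]
        exact map_smul (Ideal.Quotient.mkₐ k I) _ a
  have hπ : ∀ (φ : Module.Dual k V) (u : V), u ∈ U →
      π (GrothLib.Comodule.cfMap φ u) = algebraMap k (A ⧸ J) (φ u) := fun φ u hu => by
    rw [← sub_eq_zero, ← π.commutes (φ u), ← map_sub]
    exact Ideal.Quotient.eq_zero_iff_mem.2 (Ideal.subset_span ⟨φ, u, hu, rfl⟩)
  have hfix : ∀ u ∈ U, u ∈ GLin.quotInvariants k A V J := fun u hu => by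
    rw [GLin.mem_quotInvariants_iff]
    refine GrothLib.Comodule.ext_dual_left fun φ => ?_
    rw [← hlid, ← GrothLib.Comodule.cfMap_apply, hπ φ u hu, LinearMap.rTensor_tmul, TensorProduct.lid_tmul,
      Algebra.algebraMap_eq_smul_one]
  have hcomul : ∀ (φ : Module.Dual k V) (u : V), Coalgebra.comul (R := k) (GrothLib.Comodule.cfMap (C := A) φ u) =
      (GrothLib.Comodule.cfMap φ).rTensor A (Comod.coact (k := k) (A := A) u) := fun φ u =>
    GrothLib.Comodule.IsComodHom.apply (GrothLib.Comodule.isComodHom_cfMap φ) u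
  refine ⟨J, ?_, hfix, fun I hI => Ideal.span_le.2 ?_⟩
  · refine GrothLib.Hopf.FiniteRank.isHopfIdeal_of J ?_ ?_ ?_
    · refine Ideal.span_le.2 ?_
      rintro _ ⟨φ, u, -, rfl⟩
      show Bialgebra.counitAlgHom k A _ = 0
      rw [map_sub, AlgHom.commutes]
      show Coalgebra.counit (R := k) (GrothLib.Comodule.cfMap φ u) - φ u = 0
      rw [GrothLib.Comodule.counit_cfMap, sub_self]
    · intro x hx
      have hle : J ≤ RingHom.ker ((Algebra.TensorProduct.map π π).comp (Bialgebra.comulAlgHom k A)) := by
        refine Ideal.span_le.2 ?_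
        rintro _ ⟨φ, u, hu, rfl⟩
        show ((Algebra.TensorProduct.map π π).comp (Bialgebra.comulAlgHom k A)) _ = 0
        rw [map_sub, AlgHom.commutes, AlgHom.comp_apply, sub_eq_zero]
        show Algebra.TensorProduct.map π π (Coalgebra.comul (R := k) (GrothLib.Comodule.cfMap φ u)) = _
        have key : ∀ z : V ⊗[k] A, Algebra.TensorProduct.map π π ((GrothLib.Comodule.cfMap φ).rTensor A z) =
            TensorProduct.map (π.toLinearMap ∘ₗ GrothLib.Comodule.cfMap φ) LinearMap.id
              (π.toLinearMap.lTensor V z) := fun z => by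
          induction z using TensorProduct.induction_on with
          | zero => simp
          | add p q hp hq => simp only [map_add, hp, hq]
          | tmul p a => simp
        rw [hcomul, key, (GLin.mem_quotInvariants_iff k A V J u).1 (hfix u hu)]
        simp only [TensorProduct.map_tmul, LinearMap.comp_apply, AlgHom.toLinearMap_apply, LinearMap.id_apply]
        rw [hπ φ u hu, Algebra.TensorProduct.algebraMap_apply]
      exact hle hx
    · intro x hx
      have hle : J ≤ RingHom.ker (π.comp (HopfAlgebra.antipodeAlgHom k A)) := by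
        refine Ideal.span_le.2 ?_
        rintro _ ⟨φ, u, hu, rfl⟩
        show (π.comp (HopfAlgebra.antipodeAlgHom k A)) _ = 0
        rw [map_sub, AlgHom.commutes, AlgHom.comp_apply, sub_eq_zero]
        show π (HopfAlgebraStruct.antipode k (GrothLib.Comodule.cfMap φ u)) = _
        let τ : V →ₗ[k] A ⧸ J := π.toLinearMap ∘ₗ HopfAlgebraStruct.antipode k ∘ₗ GrothLib.Comodule.cfMap φ
        have key : ∀ z : V ⊗[k] A, π (LinearMap.mul' k A ((HopfAlgebraStruct.antipode k (A := A)).rTensor A
            ((GrothLib.Comodule.cfMap φ).rTensor A z))) =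
              LinearMap.mul' k (A ⧸ J) (τ.rTensor (A ⧸ J) (π.toLinearMap.lTensor V z)) := fun z => by
          induction z using TensorProduct.induction_on with
          | zero => simp
          | add p q hp hq => simp only [map_add, hp, hq]
          | tmul p a => simp [τ]
        have h := key (Comod.coact (k := k) (A := A) u)
        rw [← hcomul, HopfAlgebra.mul_antipode_rTensor_comul_apply, AlgHom.commutes,
          GrothLib.Comodule.counit_cfMap, (GLin.mem_quotInvariants_iff k A V J u).1 (hfix u hu),
          LinearMap.rTensor_tmul, LinearMap.mul'_apply, mul_one] at h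
        exact h.symm
      exact Ideal.Quotient.eq_zero_iff_mem.1 (hle hx)
  · rintro _ ⟨φ, u, hu, rfl⟩
    rw [SetLike.mem_coe, ← Ideal.Quotient.eq_zero_iff_mem, map_sub, sub_eq_zero, GrothLib.Comodule.cfMap_apply,
      ← Ideal.Quotient.mkₐ_eq_mk k, hlid, (GLin.mem_quotInvariants_iff k A V I u).1 (hI u hu),
      LinearMap.rTensor_tmul, TensorProduct.lid_tmul, AlgHom.commutes, ← Algebra.algebraMap_eq_smul_one]

/-- a larger ideal fixes more -/
theorem quotInvariants_mono {I J : Ideal A} (h : I ≤ J) :
    GLin.quotInvariants k A V I ≤ GLin.quotInvariants k A V J := by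
  intro u hu
  rw [GLin.mem_quotInvariants_iff] at hu ⊢
  have h' := congrArg ((Ideal.Quotient.factorₐ k h).toLinearMap.lTensor V) hu
  rw [← LinearMap.lTensor_comp_apply, LinearMap.lTensor_tmul, AlgHom.toLinearMap_apply, map_one] at h'
  rw [← h']
  congr 1

end GrothLib.PsRefl
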