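import Groth.Agent.Lib.PsRefl.Fix
import Groth.Agent.Lib.Comod.Reynolds
import Groth.Agent.Lib.Comod.Along
import Mathlib.LinearAlgebra.TensorProduct.RightExactness
import Mathlib.RingTheory.FiniteType

/-!
# The line of a pseudo-reflection at a fixed rational point
-/

universe u

open TensorProduct HopfRep GLin

namespace GrothLib.PsRefl

variable {k : Type u} [Field k] {A : Type u} [CommRing A] [HopfAlgebra k A]
  {R : Type u} [CommRing R] [Algebra k R] [Comod k A R] [IsCoactAlg k A R]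

/-- the coaction read modulo an ideal of the group -/
noncomputable def coactMod (I : Ideal A) : R →ₐ[k] R ⊗[k] (A ⧸ I) :=
  (Algebra.TensorProduct.map (AlgHom.id k R) (Ideal.Quotient.mkₐ k I)).comp (coactAlgHom k A R)

theorem coactMod_eq (I : Ideal A) (f : R) :
    coactMod (k := k) I f = (Ideal.Quotient.mkₐ k I).toLinearMap.lTensor R (Comod.coact (k := k) (A := A) f) := by
  show Algebra.TensorProduct.map _ _ (Comod.coact (k := k) (A := A) f) = _
  induction Comod.coact (k := k) (A := A) f using TensorProduct.induction_on with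
  | zero => simp
  | tmul p q => simp
  | add p q hp hq => simp only [map_add, hp, hq]

/-- the deviation from invariance, read modulo an ideal of the group -/
noncomputable def delta (I : Ideal A) : R →ₗ[k] R ⊗[k] (A ⧸ I) :=
  (coactMod (k := k) (R := R) I).toLinearMap - (TensorProduct.mk k R (A ⧸ I)).flip 1

theorem delta_apply (I : Ideal A) (f : R) : delta (k := k) I f = coactMod I f - f ⊗ₜ[k] (1 : A ⧸ I) := rfl

theorem delta_invariant_mul (I : Ideal A) {c : R} (hc : c ∈ invariants k A R) (f : R) :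
    delta (k := k) I (c * f) = (LinearMap.mulLeft k c).rTensor (A ⧸ I) (delta I f) := by
  have h1 : ∀ t : R ⊗[k] (A ⧸ I), (c ⊗ₜ[k] (1 : A ⧸ I)) * t = (LinearMap.mulLeft k c).rTensor (A ⧸ I) t := fun t => by
    induction t using TensorProduct.induction_on with
    | zero => simp
    | tmul p q => simp
    | add p q hp hq => simp only [mul_add, map_add, hp, hq]
  rw [← h1, delta_apply, delta_apply, map_mul, mul_sub, Algebra.TensorProduct.tmul_mul_tmul, one_mul,
    coactMod_eq I c, show Comod.coact (k := k) (A := A) c = c ⊗ₜ[k] (1 : A) from hc, LinearMap.lTensor_tmul]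
  simp

variable (x : R →ₐ[k] k) (hx : IsFixedPt k A x)

include hx in
/-- the coaction at a fixed point keeps the maximal ideal -/
theorem map_coact_mem {f : R} (hf : x f = 0) :
    coactAlgHom k A R f ∈ (RingHom.ker x).map (Algebra.TensorProduct.includeLeft : R →ₐ[k] R ⊗[k] A) := by
  have hs : Function.Surjective x := fun c => ⟨algebraMap k R c, x.commutes c⟩
  rw [← Algebra.TensorProduct.rTensor_ker x hs, RingHom.mem_ker]
  refine (Algebra.TensorProduct.lid k A).injective ?_
  rw [map_zero]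
  have h := AlgHom.congr_fun hx f
  rw [AlgHom.comp_apply, hf, map_zero] at h
  exact h

include hx in
theorem coact_pow_mem (n : ℕ) {f : R} (hf : f ∈ RingHom.ker x ^ n) :
    coactAlgHom k A R f ∈
      ((RingHom.ker x) ^ n).map (Algebra.TensorProduct.includeLeft : R →ₐ[k] R ⊗[k] A) := by
  rw [Ideal.map_pow]
  have hle : (RingHom.ker x).map (coactAlgHom k A R) ≤
      (RingHom.ker x).map (Algebra.TensorProduct.includeLeft : R →ₐ[k] R ⊗[k] A) :=
    Ideal.map_le_iff_le_comap.2 fun g hg => map_coact_mem x hx hg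
  have h := Ideal.mem_map_of_mem (coactAlgHom k A R) hf
  rw [Ideal.map_pow] at h
  exact Ideal.pow_right_mono hle n h

omit [IsCoactAlg k A R] in
theorem map_mk_eq_rTensor (J : Ideal R) {C : Type u} [CommRing C] [Algebra k C] (t : R ⊗[k] C) :
    Algebra.TensorProduct.map (Ideal.Quotient.mkₐ k J) (AlgHom.id k C) t =
      (Ideal.Quotient.mkₐ k J).toLinearMap.rTensor C t := by
  induction t using TensorProduct.induction_on with
  | zero => simp
  | tmul p q => simp
  | add p q hp hq => simp only [map_add, hp, hq]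

include hx in
theorem rTensor_mk_coact_eq_zero (n : ℕ) {f : R} (hf : f ∈ RingHom.ker x ^ n) :
    (Ideal.Quotient.mkₐ k (RingHom.ker x ^ n)).toLinearMap.rTensor A (Comod.coact (k := k) (A := A) f) = 0 := by
  have h := coact_pow_mem x hx n hf
  rw [← show RingHom.ker (Ideal.Quotient.mkₐ k (RingHom.ker x ^ n)) = RingHom.ker x ^ n from Ideal.Quotient.mkₐ_ker k _,
    ← Algebra.TensorProduct.rTensor_ker _ (Ideal.Quotient.mkₐ_surjective k _), RingHom.mem_ker,
    map_mk_eq_rTensor, coactAlgHom_apply] at h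
  exact h

include hx in
/-- powers of the ideal of a fixed point are stable -/
theorem isSubcomod_pow (n : ℕ) :
    IsSubcomod (k := k) (A := A) ((RingHom.ker x ^ n).restrictScalars k) := by
  intro f hf
  have hex : Function.Exact ((RingHom.ker x ^ n).restrictScalars k).subtype
      (Ideal.Quotient.mkₐ k (RingHom.ker x ^ n)).toLinearMap := by
    rw [LinearMap.exact_iff, Submodule.range_subtype]
    ext g
    exact Ideal.Quotient.eq_zero_iff_mem
  exact (rTensor_exact A hex (Ideal.Quotient.mkₐ_surjective k _) _).1 (rTensor_mk_coact_eq_zero x hx n hf)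

include hx in
/-- the line of a pseudo-reflection: the deviation from invariance is a multiple of it to all orders -/
theorem exists_line [IsNoetherianRing R] {I : Ideal A} [I.IsHopfIdeal k]
    (hB : IsLinearlyReductive k (A ⧸ I)) (hI : IsPseudoReflAt k A R x I) :
    ∃ ℓ : R, ℓ ∈ RingHom.ker x ∧ ℓ ∉ RingHom.ker x ^ 2 ∧
      ∀ {J : Type u} (b : Module.Basis J k (A ⧸ I)) (n : ℕ) (f : R) (j : J),
        coef b j (delta I f) ∈ Ideal.span {ℓ} ⊔ RingHom.ker x ^ n := by
  classical
  letI cB : Comod k (A ⧸ I) R :=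
    GrothLib.Comodule.pushAlong (V := R) (Bialgebra.Quotient.mkBialgHom (R := k) I).toCoalgHom
  have hρ : ∀ f : R, Comod.coact (k := k) (A := A ⧸ I) f = coactMod I f := fun f => (coactMod_eq I f).symm
  let 𝔪 := RingHom.ker x
  let m2 : Submodule k R := (𝔪 ^ 2).restrictScalars k
  have hstab : ∀ n, IsSubcomod (k := k) (A := A ⧸ I) ((𝔪 ^ n).restrictScalars k) := fun n f hf => by
    obtain ⟨y, hy⟩ := isSubcomod_pow x hx n f hf
    refine ⟨(Ideal.Quotient.mkₐ k I).toLinearMap.lTensor _ y, ?_⟩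
    rw [← LinearMap.comp_apply, LinearMap.rTensor_comp_lTensor, ← LinearMap.lTensor_comp_rTensor,
      LinearMap.comp_apply, hy, hρ, coactMod_eq]
  have hm : IsSubcomod (k := k) (A := A ⧸ I) (𝔪.restrictScalars k) := by
    have := hstab 1; rwa [pow_one] at this
  have hsq : 𝔪 ^ 2 ≤ 𝔪 := Ideal.pow_le_self two_ne_zero
  -- a finite stable space spanning the cotangent space
  obtain ⟨s, hs⟩ := (IsNoetherian.noetherian 𝔪 : 𝔪.FG)
  choose Uv hUfin hUmem hUsub using fun v : s =>
    GrothLib.Comodule.exists_finite_subcomod (k := k) (C := A ⧸ I) (V := R) (v : R)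
  let U₀ : Submodule k R := (⨆ v, Uv v) ⊓ 𝔪.restrictScalars k
  have hU₀ : IsSubcomod (k := k) (A := A ⧸ I) U₀ :=
    GrothLib.Comodule.isSubcomod_inf (GrothLib.Comodule.isSubcomod_iSup hUsub) hm
  haveI : Module.Finite k ↥(⨆ v, Uv v) := by
    haveI := hUfin
    exact Submodule.finite_iSup Uv
  haveI : Module.Finite k U₀ := Submodule.finiteDimensional_of_le inf_le_left
  obtain ⟨T, hT, hTle, hdis, hsup⟩ := GrothLib.Comodule.Reynolds.exists_compl hB hU₀
    (GrothLib.Comodule.isSubcomod_inf hU₀ (hstab 2)) inf_le_left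
  haveI : Module.Finite k T := Submodule.finiteDimensional_of_le hTle
  have hTm : ∀ t ∈ T, t ∈ 𝔪 := fun t ht => (hTle ht).2
  have hT2 : ∀ t ∈ T, t ∈ 𝔪 ^ 2 → t = 0 := fun t ht ht' => by
    have : t ∈ (U₀ ⊓ (𝔪 ^ 2).restrictScalars k) ⊓ T := ⟨⟨hTle ht, ht'⟩, ht⟩
    rwa [hdis.eq_bot, Submodule.mem_bot] at this
  have hdec : ∀ a ∈ 𝔪, ∃ t ∈ T, a - t ∈ 𝔪 ^ 2 := by
    intro a ha
    rw [← hs] at ha
    induction ha using Submodule.span_induction with
    | mem a ha =>
      have : a ∈ U₀ ⊓ (𝔪 ^ 2).restrictScalars k ⊔ T := by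
        rw [hsup]
        refine ⟨Submodule.mem_iSup_of_mem ⟨a, ha⟩ (hUmem _), ?_⟩
        show a ∈ 𝔪
        rw [← hs]; exact Ideal.subset_span ha
      obtain ⟨p, hp, t, ht, rfl⟩ := Submodule.mem_sup.1 this
      exact ⟨t, ht, by rw [add_sub_cancel_right]; exact hp.2⟩
    | zero => exact ⟨0, zero_mem _, by simp⟩
    | add a b _ _ ha hb =>
      obtain ⟨t, ht, hta⟩ := ha
      obtain ⟨t', ht', htb⟩ := hb
      exact ⟨t + t', add_mem ht ht', by rw [add_sub_add_comm]; exact add_mem hta htb⟩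
    | smul r a ha' ih =>
      obtain ⟨t, ht, hta⟩ := ih
      refine ⟨x r • t, T.smul_mem _ ht, ?_⟩
      have ha1 : a ∈ 𝔪 := hs ▸ ha'
      have hr : r - algebraMap k R (x r) ∈ 𝔪 := by
        show x (r - algebraMap k R (x r)) = 0
        rw [map_sub, AlgHom.commutes]; exact sub_self _
      have : r • a - x r • t = (r - algebraMap k R (x r)) * a + algebraMap k R (x r) * (a - t) := by
        rw [smul_eq_mul, Algebra.smul_def]; ring
      rw [this, pow_two] at *
      exact add_mem (Ideal.mul_mem_mul hr ha1) (Ideal.mul_mem_left _ _ hta)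
  -- cotangent space and its fixed part
  let q : R →ₗ[k] R ⧸ 𝔪 ^ 2 := (Ideal.Quotient.mkₐ k (𝔪 ^ 2)).toLinearMap
  let qT : T →ₗ[k] R ⧸ 𝔪 ^ 2 := q ∘ₗ T.subtype
  have hqT : Function.Injective qT := (injective_iff_map_eq_zero qT).2 fun t ht =>
    Subtype.ext (hT2 t t.2 (Ideal.Quotient.eq_zero_iff_mem.1 ht))
  have hcot : cotSpace k R x = T.map q := by
    refine le_antisymm ?_ (Submodule.map_mono hTm)
    rintro _ ⟨a, ha, rfl⟩
    obtain ⟨t, ht, hta⟩ := hdec a ha
    exact ⟨t, ht, (Ideal.Quotient.eq.2 hta).symm⟩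
  let F : Submodule k R := T ⊓ fixedPts k (A ⧸ I) R
  have hfl : ∀ v : R, TensorProduct.map q (Ideal.Quotient.mkₐ k I).toLinearMap (Comod.coact (k := k) (A := A) v) =
      q.rTensor (A ⧸ I) (coactMod I v) := fun v => by
    rw [coactMod_eq, ← LinearMap.comp_apply (f := q.rTensor (A ⧸ I)), LinearMap.rTensor_comp_lTensor]
  have hfix : cotFixed k A R x I = F.map q := by
    refine le_antisymm ?_ ?_
    · rintro _ ⟨a, ⟨ha, ha'⟩, rfl⟩
      obtain ⟨t, ht, hta⟩ := hdec a ha
      have hqa : q a = q t := Ideal.Quotient.eq.2 hta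
      refine ⟨t, ⟨ht, ?_⟩, hqa.symm⟩
      have hta' : q.rTensor (A ⧸ I) (coactMod I (a - t)) = 0 := by
        rw [coactMod_eq, ← LinearMap.comp_apply, LinearMap.rTensor_comp_lTensor,
          ← LinearMap.lTensor_comp_rTensor, LinearMap.comp_apply]
        show _ = (0 : (R ⧸ 𝔪 ^ 2) ⊗[k] (A ⧸ I))
        rw [rTensor_mk_coact_eq_zero x hx 2 hta, map_zero]
      have ha'' : q.rTensor (A ⧸ I) (coactMod I a) = q a ⊗ₜ[k] (1 : A ⧸ I) := (hfl a).symm.trans ha'
      rw [map_sub, map_sub, sub_eq_zero, ha'', hqa] at hta'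
      obtain ⟨y, hy⟩ := hT t ht
      have : y = (⟨t, ht⟩ : T) ⊗ₜ[k] (1 : A ⧸ I) := by
        refine Module.Flat.rTensor_preserves_injective_linearMap qT hqT ?_
        rw [LinearMap.rTensor_comp, LinearMap.comp_apply, LinearMap.comp_apply, hy, hρ, LinearMap.rTensor_tmul,
          LinearMap.rTensor_tmul]
        exact hta'.symm
      show Comod.coact (k := k) (A := A ⧸ I) t = t ⊗ₜ[k] (1 : A ⧸ I)
      rw [← hy, this, LinearMap.rTensor_tmul]; rfl
    · rintro _ ⟨t, ⟨ht, ht'⟩, rfl⟩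
      refine ⟨t, ⟨hTm t ht, (hfl t).trans ?_⟩, rfl⟩
      rw [← hρ, show Comod.coact (k := k) (A := A ⧸ I) t = t ⊗ₜ[k] (1 : A ⧸ I) from ht', LinearMap.rTensor_tmul]
      rfl
  obtain ⟨L, hL, hLT, hLd, hLs⟩ := GrothLib.Comodule.Reynolds.exists_compl hB hT
    (GrothLib.Comodule.isSubcomod_inf hT (GrothLib.Comodule.Reynolds.isSubcomod_fixedPts (A := A ⧸ I) (V := R))) inf_le_left
  haveI : Module.Finite k L := Submodule.finiteDimensional_of_le hLT
  haveI : Module.Finite k ↥F := Submodule.finiteDimensional_of_le inf_le_left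
  have hdimL : Module.finrank k L = 1 := by
    have h := hI.2
    have hinj : ∀ W : Submodule k R, W ≤ T → Module.finrank k (W.map q) = Module.finrank k W := fun W hW => by
      refine (congrArg (fun N : Submodule k (R ⧸ 𝔪 ^ 2) => Module.finrank k N) (LinearMap.range_domRestrict W q).symm).trans
        (LinearMap.finrank_range_of_inj (f := q.domRestrict W) ?_)
      intro a c hac
      have hac' := hqT (a₁ := ⟨a, hW a.2⟩) (a₂ := ⟨c, hW c.2⟩) hac
      exact Subtype.ext (congrArg (fun z : T => (z : R)) hac')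
    rw [hfix, hcot, hinj F inf_le_left, hinj T le_rfl, ← hLs] at h
    have h2 := Submodule.finrank_sup_add_finrank_inf_eq F L
    rw [hLd.eq_bot, finrank_bot, add_zero] at h2
    change Module.finrank k F + 1 = Module.finrank k ↥(F ⊔ L) at h
    omega
  obtain ⟨⟨ℓ, hℓL⟩, hℓ0, hℓsp⟩ := finrank_eq_one_iff'.1 hdimL
  have hℓ2 : ℓ ∉ 𝔪 ^ 2 := fun h => hℓ0 (Subtype.ext (hT2 ℓ (hLT hℓL) h))
  refine ⟨ℓ, hTm ℓ (hLT hℓL), hℓ2, ?_⟩
  intro J b n f j
  let Q : Ideal R := Ideal.span {ℓ} ⊔ 𝔪 ^ n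
  let h₁ : R →ₐ[k] (R ⧸ Q) ⊗[k] (A ⧸ I) :=
    (Algebra.TensorProduct.map (Ideal.Quotient.mkₐ k Q) (AlgHom.id k (A ⧸ I))).comp (coactMod I)
  let h₂ : R →ₐ[k] (R ⧸ Q) ⊗[k] (A ⧸ I) :=
    Algebra.TensorProduct.includeLeft.comp (Ideal.Quotient.mkₐ k Q)
  let E := AlgHom.equalizer h₁ h₂
  have hh₁ : ∀ g, h₁ g = (Ideal.Quotient.mkₐ k Q).toLinearMap.rTensor (A ⧸ I) (coactMod I g) :=
    fun g => map_mk_eq_rTensor Q _
  have hTE : ∀ t ∈ T, t ∈ E := by
    intro t ht
    rw [← hLs] at ht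
    obtain ⟨v, hv, l, hl, rfl⟩ := Submodule.mem_sup.1 ht
    refine add_mem ?_ ?_
    · show h₁ v = h₂ v
      rw [hh₁, ← hρ, show Comod.coact (k := k) (A := A ⧸ I) v = v ⊗ₜ[k] (1 : A ⧸ I) from hv.2,
        LinearMap.rTensor_tmul]
      rfl
    · have hl0 : ∀ w ∈ L, Ideal.Quotient.mkₐ k Q w = 0 := fun w hw => by
        obtain ⟨c, hc⟩ := hℓsp ⟨w, hw⟩
        have hc' : c • ℓ = w := congrArg Subtype.val hc
        rw [← hc', map_smul, show Ideal.Quotient.mkₐ k Q ℓ = 0 from Ideal.Quotient.eq_zero_iff_mem.2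
          (Ideal.mem_sup_left (Ideal.mem_span_singleton_self ℓ)), smul_zero]
      show h₁ l = h₂ l
      obtain ⟨y, hy⟩ := hL l hl
      rw [hh₁, ← hρ, ← hy, ← LinearMap.comp_apply, ← LinearMap.rTensor_comp,
        show (Ideal.Quotient.mkₐ k Q).toLinearMap ∘ₗ L.subtype = 0 from LinearMap.ext fun w => hl0 w w.2,
        LinearMap.rTensor_zero, LinearMap.zero_apply]
      show 0 = (Ideal.Quotient.mkₐ k Q l) ⊗ₜ[k] (1 : A ⧸ I)
      rw [hl0 l hl, TensorProduct.zero_tmul]
  have hbase : ∀ g ∈ 𝔪 ^ n, g ∈ E := by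
    intro g hg
    show h₁ g = h₂ g
    have hz : h₂ g = 0 := by
      show (Ideal.Quotient.mkₐ k Q g) ⊗ₜ[k] (1 : A ⧸ I) = 0
      rw [show Ideal.Quotient.mkₐ k Q g = 0 from Ideal.Quotient.eq_zero_iff_mem.2 (Ideal.mem_sup_right hg),
        TensorProduct.zero_tmul]
    obtain ⟨y, hy⟩ := hstab n g hg
    rw [hz, hh₁, ← hρ, ← hy, ← LinearMap.comp_apply, ← LinearMap.rTensor_comp,
      show (Ideal.Quotient.mkₐ k Q).toLinearMap ∘ₗ ((𝔪 ^ n).restrictScalars k).subtype = 0 from
        LinearMap.ext fun w => Ideal.Quotient.eq_zero_iff_mem.2 (Ideal.mem_sup_right w.2),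
      LinearMap.rTensor_zero, LinearMap.zero_apply]
  have hstep : ∀ i : ℕ, ∀ g ∈ 𝔪 ^ (i + 1), ∃ e ∈ E, g - e ∈ 𝔪 ^ (i + 2) ∧ e ∈ 𝔪 ^ (i + 1) := by
    intro i
    induction i with
    | zero =>
      intro g hg
      rw [zero_add, pow_one] at hg
      obtain ⟨t, ht, hgt⟩ := hdec g hg
      exact ⟨t, hTE t ht, hgt, by rw [zero_add, pow_one]; exact hTm t ht⟩
    | succ i ih =>
      intro g hg
      rw [pow_succ'] at hg
      induction hg using Submodule.mul_induction_on' with
      | mem_mul_mem a ha c hc =>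
        obtain ⟨t, ht, hta⟩ := hdec a ha
        obtain ⟨e, he, hec, hem⟩ := ih c hc
        refine ⟨t * e, mul_mem (hTE t ht) he, ?_, by rw [pow_succ']; exact Ideal.mul_mem_mul (hTm t ht) hem⟩
        rw [show a * c - t * e = (a - t) * c + t * (c - e) by ring]
        refine add_mem ?_ ?_
        · have := Ideal.mul_mem_mul hta hc
          rwa [← pow_add, show 2 + (i + 1) = i + 1 + 2 by omega] at this
        · rw [pow_succ']; exact Ideal.mul_mem_mul (hTm t ht) hec
      | add a _ c _ iha ihc =>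
        obtain ⟨e, he, hea, hem⟩ := iha
        obtain ⟨e', he', hec, hem'⟩ := ihc
        exact ⟨e + e', add_mem he he', by rw [add_sub_add_comm]; exact add_mem hea hec, add_mem hem hem'⟩
  have hpow : ∀ d i : ℕ, n ≤ i + 1 + d → ∀ g ∈ 𝔪 ^ (i + 1), g ∈ E := by
    intro d
    induction d with
    | zero => exact fun i hi g hg => hbase g (Ideal.pow_le_pow_right (by omega) hg)
    | succ d ih =>
      intro i hi g hg
      obtain ⟨e, he, hge, -⟩ := hstep i g hg
      have := add_mem (ih (i + 1) (by omega) _ hge) he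
      rwa [sub_add_cancel] at this
  have hfE : f ∈ E := by
    have h := add_mem (hpow n 0 (by omega) (f - algebraMap k R (x f)) (by
      rw [zero_add, pow_one]
      show x (f - algebraMap k R (x f)) = 0
      rw [map_sub, AlgHom.commutes]; exact sub_self _)) (E.algebraMap_mem (x f))
    rwa [sub_add_cancel] at h
  have h0 : (Ideal.Quotient.mkₐ k Q).toLinearMap.rTensor (A ⧸ I) (delta I f) = 0 := by
    rw [delta_apply, map_sub, ← hh₁, show h₁ f = h₂ f from hfE, LinearMap.rTensor_tmul, sub_eq_zero]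
    rfl
  have := congrArg (coef b j) h0
  rw [coef_rTensor, map_zero] at this
  exact Ideal.Quotient.eq_zero_iff_mem.1 this

end GrothLib.PsRefl
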