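import Groth.Agent.Lib.PsRefl.Regular

/-!
# Polynomial invariants of groups generated by pseudo-reflections
-/

universe u

open TensorProduct HopfRep GLin MvPolynomial

namespace GrothLib.PsRefl

variable {k : Type u} [Field k] {ι : Type u} [Fintype ι]

/-- the origin -/
noncomputable def origin : (MvPolynomial ι k) →ₐ[k] k := MvPolynomial.aeval fun _ => (0 : k)

theorem origin_apply (p : (MvPolynomial ι k)) : origin (k := k) (ι := ι) p = constantCoeff p := by
  simp [origin, MvPolynomial.aeval_zero']

theorem mem_pow_of_isHomogeneous {d : ℕ} {p : (MvPolynomial ι k)} (hp : p.IsHomogeneous d) :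
    p ∈ RingHom.ker (origin (k := k) (ι := ι)) ^ d := by
  classical
  rw [p.as_sum]
  refine Ideal.sum_mem _ fun e he => ?_
  have hd : e.degree = d := by
    by_contra hne
    exact mem_support_iff.1 he (hp.coeff_eq_zero hne)
  subst hd
  rw [show monomial e (coeff e p) = C (coeff e p) * monomial e 1 by rw [C_mul_monomial, mul_one]]
  refine Ideal.mul_mem_left _ _ ?_
  clear he hp
  induction e using Finsupp.induction with
  | zero => simp
  | single_add i c e _ _ ih =>
    rw [monomial_single_add, map_add, Finsupp.degree_single, pow_add]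
    refine Ideal.mul_mem_mul (Ideal.pow_mem_pow ?_ _) ih
    show origin (X i : (MvPolynomial ι k)) = 0
    simp [origin]

theorem component_zero_of_mem {a : (MvPolynomial ι k)} (ha : origin (k := k) a = 0) : homogeneousComponent 0 a = 0 := by
  rw [origin_apply, constantCoeff_eq] at ha
  rw [homogeneousComponent_zero, ha, map_zero]

/-- a product of two elements vanishing at the origin has small components -/
theorem component_mul_mem (S : Submodule k (MvPolynomial ι k)) (d : ℕ) {a b : (MvPolynomial ι k)}
    (h : ∀ i j, i + j = d → homogeneousComponent i a * homogeneousComponent j b ∈ S) :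
    homogeneousComponent d (a * b) ∈ S := by
  classical
  rw [← sum_homogeneousComponent a, ← sum_homogeneousComponent b, Finset.sum_mul, map_sum]
  refine Submodule.sum_mem _ fun i _ => ?_
  rw [Finset.mul_sum, map_sum]
  refine Submodule.sum_mem _ fun j _ => ?_
  rw [homogeneousComponent_of_mem ((homogeneousComponent_mem i a).mul (homogeneousComponent_mem j b))]
  split_ifs with hd
  · exact h i j hd.symm
  · exact zero_mem _

theorem component_one_sq {a : (MvPolynomial ι k)} (ha : a ∈ RingHom.ker (origin (k := k) (ι := ι)) ^ 2) :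
    homogeneousComponent 1 a = 0 := by
  rw [pow_two] at ha
  induction ha using Submodule.mul_induction_on' with
  | mem_mul_mem p hp q hq =>
    rw [← Submodule.mem_bot k]
    refine component_mul_mem ⊥ 1 fun i j hij => ?_
    rw [Submodule.mem_bot]
    rcases Nat.eq_zero_or_pos i with rfl | hi
    · rw [component_zero_of_mem hp, zero_mul]
    · obtain rfl : j = 0 := by omega
      rw [component_zero_of_mem hq, mul_zero]
  | add p _ q _ hp hq => rw [map_add, hp, hq, add_zero]

theorem sub_component_one_mem {a : (MvPolynomial ι k)} (ha : origin (k := k) a = 0) :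
    a - homogeneousComponent 1 a ∈ RingHom.ker (origin (k := k) (ι := ι)) ^ 2 := by
  classical
  have h1 : homogeneousComponent 1 a = ∑ i ∈ Finset.range (a.totalDegree + 1),
      if i = 1 then homogeneousComponent i a else 0 := by
    rw [Finset.sum_ite_eq']
    split_ifs with h
    · rfl
    · exact homogeneousComponent_eq_zero _ _ (by simpa using h)
  rw [h1]
  nth_rewrite 1 [← sum_homogeneousComponent a]
  rw [← Finset.sum_sub_distrib]
  refine Ideal.sum_mem _ fun i _ => ?_
  split_ifs with hi
  · rw [sub_self]; exact zero_mem _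
  · rw [sub_zero]
    rcases Nat.eq_zero_or_pos i with rfl | hi'
    · rw [component_zero_of_mem ha]; exact zero_mem _
    · exact Ideal.pow_le_pow_right (by omega) (mem_pow_of_isHomogeneous (homogeneousComponent_mem i a))

variable {A : Type u} [CommRing A] [HopfAlgebra k A] [Comod k A (MvPolynomial ι k)] [IsCoactAlg k A (MvPolynomial ι k)]

theorem linear_range (hlin : GLin.IsLinear k A ι) (i : ι) :
    Comod.coact (k := k) (A := A) (X i : (MvPolynomial ι k)) ∈
      LinearMap.range ((homogeneousSubmodule ι k 1).subtype.rTensor A) := by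
  obtain ⟨m, hm⟩ := hlin i
  exact ⟨∑ j, (⟨X j, isHomogeneous_X k j⟩ : homogeneousSubmodule ι k 1) ⊗ₜ[k] m j, by simp [hm]⟩

theorem isFixedPt_origin (hlin : GLin.IsLinear k A ι) : IsFixedPt k A (origin (k := k) (ι := ι)) := by
  refine MvPolynomial.algHom_ext fun i => ?_
  obtain ⟨m, hm⟩ := hlin i
  rw [AlgHom.comp_apply, GrothLib.AffQuot.orbitHom_apply, GrothLib.Comodule.cfMap_apply, hm]
  simp [origin]

theorem isPseudoReflAt_origin (hlin : GLin.IsLinear k A ι) {I : Ideal A}
    (hI : IsPseudoRefl k A ι I) : IsPseudoReflAt k A (MvPolynomial ι k) (origin (k := k) (ι := ι)) I := by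
  let x := origin (k := k) (ι := ι)
  let V := linForms k ι
  have hx := isFixedPt_origin hlin
  let q : (MvPolynomial ι k) →ₗ[k] (MvPolynomial ι k) ⧸ RingHom.ker x ^ 2 := (Ideal.Quotient.mkₐ k (RingHom.ker x ^ 2)).toLinearMap
  have hVm : ∀ t ∈ V, x t = 0 := fun t ht => by
    have := mem_pow_of_isHomogeneous (show MvPolynomial.IsHomogeneous t 1 from ht)
    rwa [pow_one] at this
  have hinj : Function.Injective (q ∘ₗ V.subtype) := (injective_iff_map_eq_zero (q ∘ₗ V.subtype)).2 fun t ht => by
    have h := component_one_sq (Ideal.Quotient.eq_zero_iff_mem.1 ht)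
    rw [Submodule.coe_subtype, homogeneousComponent_of_mem t.2, if_pos rfl] at h
    exact Subtype.ext h
  have hdim : ∀ W : Submodule k (MvPolynomial ι k), W ≤ V → Module.finrank k (W.map q) = Module.finrank k W := fun W hW => by
    refine (congrArg (fun N : Submodule k ((MvPolynomial ι k) ⧸ RingHom.ker x ^ 2) => Module.finrank k N)
      (LinearMap.range_domRestrict W q).symm).trans (LinearMap.finrank_range_of_inj (f := q.domRestrict W) ?_)
    intro a c hac
    have hac' := hinj (a₁ := ⟨a, hW a.2⟩) (a₂ := ⟨c, hW c.2⟩) hac
    exact Subtype.ext (congrArg (fun z : V => (z : (MvPolynomial ι k))) hac')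
  have hcot : cotSpace k (MvPolynomial ι k) x = V.map q := by
    refine le_antisymm ?_ (Submodule.map_mono hVm)
    rintro _ ⟨a, ha, rfl⟩
    exact ⟨_, homogeneousComponent_mem 1 a, (Ideal.Quotient.eq.2 (sub_component_one_mem ha)).symm⟩
  have hfix : cotFixed k A (MvPolynomial ι k) x I = (V ⊓ quotInvariants k A (MvPolynomial ι k) I).map q := by
    refine le_antisymm ?_ ?_
    · rintro _ ⟨a, ⟨ha, ha'⟩, rfl⟩
      set t := homogeneousComponent 1 a
      have hta : a - t ∈ RingHom.ker x ^ 2 := sub_component_one_mem ha
      have hqa : q a = q t := Ideal.Quotient.eq.2 hta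
      refine ⟨t, ⟨homogeneousComponent_mem 1 a, ?_⟩, hqa.symm⟩
      have h0 : (Ideal.Quotient.mkₐ k I).toLinearMap.lTensor ((MvPolynomial ι k) ⧸ RingHom.ker x ^ 2)
          (q.rTensor A (Comod.coact (k := k) (A := A) (a - t))) = 0 := by
        rw [rTensor_mk_coact_eq_zero x hx 2 hta, map_zero]
      rw [← LinearMap.comp_apply, LinearMap.lTensor_comp_rTensor, map_sub, map_sub, sub_eq_zero] at h0
      have ha'' : TensorProduct.map q (Ideal.Quotient.mkₐ k I).toLinearMap (Comod.coact (k := k) (A := A) a) =
          q a ⊗ₜ[k] (1 : A ⧸ I) := ha'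
      rw [ha'', hqa] at h0
      obtain ⟨y, hy⟩ := GrothLib.AffQuot.isSubcomod_homogeneous (linear_range hlin) 1 t (homogeneousComponent_mem 1 a)
      rw [SetLike.mem_coe, mem_quotInvariants_iff, ← hy]
      have hy' : (Ideal.Quotient.mkₐ k I).toLinearMap.lTensor V y =
          (⟨t, homogeneousComponent_mem 1 a⟩ : V) ⊗ₜ[k] (1 : A ⧸ I) := by
        refine Module.Flat.rTensor_preserves_injective_linearMap (q ∘ₗ V.subtype) hinj ?_
        rw [LinearMap.rTensor_tmul, ← LinearMap.comp_apply, LinearMap.rTensor_comp_lTensor]
        refine Eq.trans ?_ h0.symm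
        rw [← hy]
        show _ = TensorProduct.map q _ (TensorProduct.map V.subtype LinearMap.id y)
        rw [← LinearMap.comp_apply, ← TensorProduct.map_comp, LinearMap.comp_id]
      rw [← LinearMap.comp_apply, LinearMap.lTensor_comp_rTensor, ← LinearMap.rTensor_comp_lTensor,
        LinearMap.comp_apply, hy', LinearMap.rTensor_tmul]
      rfl
    · rintro _ ⟨t, ⟨ht, ht'⟩, rfl⟩
      refine ⟨t, ⟨hVm t ht, ?_⟩, rfl⟩
      show TensorProduct.map q (Ideal.Quotient.mkₐ k I).toLinearMap (Comod.coact (k := k) (A := A) t) = q t ⊗ₜ[k] (1 : A ⧸ I)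
      rw [← LinearMap.rTensor_comp_lTensor, LinearMap.comp_apply, (mem_quotInvariants_iff k A (MvPolynomial ι k) I t).1 ht',
        LinearMap.rTensor_tmul]
  refine ⟨hI.1, ?_⟩
  rw [hfix, hcot, hdim _ inf_le_left, hdim V le_rfl]
  exact hI.2

/-- the invariants of a group generated by pseudo-reflections form a polynomial ring -/
theorem exists_algEquiv_invariants (hG : IsLinearlyReductive k A)
    (hsub : ∀ (I : Ideal A) [I.IsHopfIdeal k], IsLinearlyReductive k (A ⧸ I))
    (hlin : GLin.IsLinear k A ι) (hgen : IsGenByPseudoRefl k A ι) :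
    ∃ m : ℕ, Nonempty (↥(invariants k A (MvPolynomial ι k)) ≃ₐ[k] MvPolynomial (Fin m) k) := by
  classical
  let x := origin (k := k) (ι := ι)
  have hgen' : IsGenByPseudoReflAt k A (MvPolynomial ι k) x := by
    refine eq_bot_iff.2 (sSup_le fun J hJ => ?_)
    rw [← (show genIdeal k A ι = ⊥ from hgen)]
    exact le_sSup ⟨hJ.1, fun I hI => hJ.2 I (isPseudoReflAt_origin hlin hI)⟩
  haveI : Algebra.Smooth k (MvPolynomial ι k) := ⟨inferInstance, inferInstance⟩
  let B := ↥(invariants k A (MvPolynomial ι k))
  let xB : B →ₐ[k] k := x.comp (invariants k A (MvPolynomial ι k)).val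
  let p : Ideal B := RingHom.ker xB
  haveI : p.IsPrime := RingHom.ker_isPrime xB
  haveI hreg : IsRegularLocalRing (Localization.AtPrime p) :=
    isRegularLocalRing_invariants hG hsub x (isFixedPt_origin hlin) hgen'
  haveI : Algebra.FiniteType k B := (invariants k A (MvPolynomial ι k)).fg_iff_finiteType.1 (GrothLib.AffQuot.fg_invariants hG)
  haveI : IsNoetherianRing B := Algebra.FiniteType.isNoetherianRing k B
  have hcomp : ∀ (b : B) (d : ℕ), homogeneousComponent d (b : (MvPolynomial ι k)) ∈ invariants k A (MvPolynomial ι k) := fun b d => by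
    change Comod.coact (k := k) (A := A) _ = _
    rw [GrothLib.Comodule.IsComodHom.apply (GrothLib.AffQuot.isComodHom_homogeneousComponent (linear_range hlin) d),
      show Comod.coact (k := k) (A := A) (b : (MvPolynomial ι k)) = (b : (MvPolynomial ι k)) ⊗ₜ[k] (1 : A) from b.2, LinearMap.rTensor_tmul]
  -- homogeneous generators of the maximal ideal at the origin
  let H : Set B := {b | ∃ d, 0 < d ∧ (b : (MvPolynomial ι k)).IsHomogeneous d}
  have hpH : p = Ideal.span H := by
    refine le_antisymm (fun b hb => ?_) (Ideal.span_le.2 ?_)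
    · have : b = ∑ d ∈ Finset.range ((b : (MvPolynomial ι k)).totalDegree + 1), (⟨_, hcomp b d⟩ : B) := Subtype.ext (by
        rw [AddSubmonoidClass.coe_finset_sum]; exact (sum_homogeneousComponent (b : (MvPolynomial ι k))).symm)
      rw [this]
      refine Ideal.sum_mem _ fun d _ => ?_
      rcases Nat.eq_zero_or_pos d with rfl | hd
      · rw [show (⟨_, hcomp b 0⟩ : B) = 0 from Subtype.ext (component_zero_of_mem (k := k) hb)]
        exact zero_mem _
      · exact Ideal.subset_span ⟨d, hd, homogeneousComponent_mem d _⟩
    · rintro b ⟨d, hd, hbd⟩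
      show x (b : (MvPolynomial ι k)) = 0
      exact Ideal.pow_le_self hd.ne' (mem_pow_of_isHomogeneous hbd)
  obtain ⟨T₀, hT₀H, hT₀⟩ := (Submodule.fg_span_iff_fg_span_finset_subset H).1 (IsNoetherian.noetherian (Ideal.span H))
  let qB : B →ₗ[k] B ⧸ p ^ 2 := (Ideal.Quotient.mkₐ k (p ^ 2)).toLinearMap
  obtain ⟨κ, a, hainj, haspan, hali⟩ := exists_linearIndependent' k (fun t : T₀ => qB t)
  haveI : Finite κ := Finite.of_injective a hainj
  letI := Fintype.ofFinite κ
  have hdec : ∀ b ∈ p, ∃ c : κ → k, b - ∑ i, c i • (a i : B) ∈ p ^ 2 := by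
    intro b hb
    have hmem : qB b ∈ Submodule.span k (Set.range fun t : T₀ => qB t) := by
      rw [hpH, Ideal.span, hT₀] at hb
      induction hb using Submodule.span_induction with
      | mem b hb => exact Submodule.subset_span ⟨⟨b, hb⟩, rfl⟩
      | zero => rw [map_zero]; exact zero_mem _
      | add b c _ _ hb hc => rw [map_add]; exact add_mem hb hc
      | smul r b hb' ih =>
        have hb1 : b ∈ p := by rw [hpH, Ideal.span, hT₀]; exact hb'
        have hr : r - algebraMap k B (xB r) ∈ p := by
          show xB _ = 0
          rw [map_sub, AlgHom.commutes]; exact sub_self _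
        have : qB (r • b) = xB r • qB b := by
          rw [← map_smul]
          refine Ideal.Quotient.eq.2 ?_
          rw [smul_eq_mul, Algebra.smul_def, ← sub_mul, pow_two]
          exact Ideal.mul_mem_mul hr hb1
        rw [this]; exact Submodule.smul_mem _ _ ih
    rw [← haspan, Submodule.mem_span_range_iff_exists_fun] at hmem
    obtain ⟨c, hc⟩ := hmem
    exact ⟨c, Ideal.Quotient.eq.1 (by
      show qB b = qB _
      rw [← hc, map_sum]
      exact Finset.sum_congr rfl fun i _ => (map_smul qB (c i) _).symm)⟩
  -- the comparison map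
  let φ : MvPolynomial κ k →ₐ[k] B := MvPolynomial.aeval fun i => (a i : B)
  have hap : ∀ i, (a i : B) ∈ p := fun i => hpH ▸ Ideal.subset_span (hT₀H (a i).2)
  have hsurj : Function.Surjective φ := by
    let S' : Subalgebra k (MvPolynomial ι k) := ((invariants k A (MvPolynomial ι k)).val.comp φ).range
    suffices main : ∀ d (b : B), homogeneousComponent d (b : (MvPolynomial ι k)) ∈ S' by
      intro b
      have hb : (b : (MvPolynomial ι k)) ∈ S' := by
        rw [← sum_homogeneousComponent (b : (MvPolynomial ι k))]
        exact Subalgebra.sum_mem _ fun d _ => main d b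
      obtain ⟨z, hz⟩ := hb
      exact ⟨z, Subtype.ext hz⟩
    intro d
    induction d using Nat.strong_induction_on with
    | _ d ih =>
      intro b
      rcases Nat.eq_zero_or_pos d with rfl | hd
      · rw [homogeneousComponent_zero]; exact Subalgebra.algebraMap_mem _ _
      let b' : B := ⟨_, hcomp b d⟩
      have hb' : b' ∈ p := by
        show x (homogeneousComponent d (b : (MvPolynomial ι k))) = 0
        exact Ideal.pow_le_self hd.ne' (mem_pow_of_isHomogeneous (homogeneousComponent_mem d (b : (MvPolynomial ι k))))
      obtain ⟨c, hc⟩ := hdec b' hb'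
      have h2 : ∀ e ∈ p ^ 2, homogeneousComponent d (e : (MvPolynomial ι k)) ∈ S' := by
        intro e he
        rw [pow_two] at he
        induction he using Submodule.mul_induction_on' with
        | mem_mul_mem u hu v hv =>
          refine component_mul_mem (Subalgebra.toSubmodule S') d fun i j hij => ?_
          rcases Nat.eq_zero_or_pos i with rfl | hi
          · rw [component_zero_of_mem (show origin (u : (MvPolynomial ι k)) = 0 from hu), zero_mul]; exact zero_mem _
          rcases Nat.eq_zero_or_pos j with rfl | hj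
          · rw [component_zero_of_mem (show origin (v : (MvPolynomial ι k)) = 0 from hv), mul_zero]; exact zero_mem _
          exact S'.mul_mem (ih i (by omega) u) (ih j (by omega) v)
        | add u _ v _ hu hv =>
          rw [AddMemClass.coe_add, map_add]; exact add_mem hu hv
      have hsum : homogeneousComponent d ((b' - ∑ i, c i • (a i : B) : B) : (MvPolynomial ι k)) =
          homogeneousComponent d (b : (MvPolynomial ι k)) - ∑ i, c i • homogeneousComponent d ((a i : B) : (MvPolynomial ι k)) := by
        rw [AddSubgroupClass.coe_sub, AddSubmonoidClass.coe_finset_sum, map_sub, map_sum,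
          show ((b' : B) : (MvPolynomial ι k)) = homogeneousComponent d (b : (MvPolynomial ι k)) from rfl,
          homogeneousComponent_of_mem (homogeneousComponent_mem d (b : (MvPolynomial ι k))), if_pos rfl]
        exact congrArg _ (Finset.sum_congr rfl fun i _ => map_smul _ _ _)
      have h3 := h2 _ hc
      rw [hsum] at h3
      have h4 : ∑ i, c i • homogeneousComponent d ((a i : B) : (MvPolynomial ι k)) ∈ S' := by
        refine Subalgebra.sum_mem _ fun i _ => Subalgebra.smul_mem _ ?_ _
        obtain ⟨e, -, he⟩ := hT₀H (a i).2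
        rw [homogeneousComponent_of_mem he]
        split_ifs
        · exact ⟨X i, by simp [φ]⟩
        · exact zero_mem _
      have := add_mem h3 h4
      rwa [sub_add_cancel] at this
  -- the number of generators is at most the dimension
  let L := Localization.AtPrime p
  have hcard : Fintype.card κ ≤ (IsLocalRing.maximalIdeal L).spanFinrank := by
    obtain ⟨z, hz⟩ := GrothLib.RegLoc.exists_generators_fin (R := L) (IsLocalRing.maximalIdeal L)
    choose num den hnd using fun j => IsLocalization.exists_mk'_eq p.primeCompl (z j)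
    have hnum : ∀ j, num j ∈ p := fun j => by
      have : z j ∈ IsLocalRing.maximalIdeal L := hz ▸ Ideal.subset_span ⟨j, rfl⟩
      rw [← hnd j] at this
      exact (IsLocalization.AtPrime.mk'_mem_maximal_iff L p (num j) (den j)).1 this
    have hle : ∀ b ∈ p, qB b ∈ Submodule.span k (Set.range fun j => qB (num j)) := by
      intro b hb
      have hb' : algebraMap B L b ∈ (Ideal.span (Set.range num)).map (algebraMap B L) := by
        have h1 : algebraMap B L b ∈ IsLocalRing.maximalIdeal L :=
          (IsLocalization.AtPrime.to_map_mem_maximal_iff L p b).2 hb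
        rw [← hz] at h1
        refine (Ideal.span_le.2 ?_ : Ideal.span (Set.range z) ≤ _) h1
        rintro _ ⟨j, rfl⟩
        rw [← hnd j, IsLocalization.mk'_eq_mul_mk'_one]
        exact Ideal.mul_mem_right _ _ (Ideal.mem_map_of_mem _ (Ideal.subset_span ⟨j, rfl⟩))
      obtain ⟨u, hu, hub⟩ := (IsLocalization.algebraMap_mem_map_algebraMap_iff p.primeCompl L _ _).1 hb'
      have hxu : xB u ≠ 0 := hu
      have hspan : ∀ e ∈ Ideal.span (Set.range num), qB e ∈ Submodule.span k (Set.range fun j => qB (num j)) := by
        intro e he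
        obtain ⟨c, rfl⟩ := Ideal.mem_span_range_iff_exists_fun.1 he
        rw [map_sum]
        refine Submodule.sum_mem _ fun j _ => ?_
        have : qB (c j * num j) = xB (c j) • qB (num j) := by
          rw [← map_smul]
          refine Ideal.Quotient.eq.2 ?_
          rw [Algebra.smul_def, ← sub_mul, pow_two]
          refine Ideal.mul_mem_mul ?_ (hnum j)
          show xB _ = 0
          rw [map_sub, AlgHom.commutes]; exact sub_self _
        rw [this]; exact Submodule.smul_mem _ _ (Submodule.subset_span ⟨j, rfl⟩)
      have h := hspan _ hub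
      have : qB (u * b) = xB u • qB b := by
        rw [← map_smul]
        refine Ideal.Quotient.eq.2 ?_
        rw [Algebra.smul_def, ← sub_mul, pow_two]
        refine Ideal.mul_mem_mul ?_ hb
        show xB _ = 0
        rw [map_sub, AlgHom.commutes]; exact sub_self _
      rw [this] at h
      exact (Submodule.smul_mem_iff _ hxu).1 h
    calc Fintype.card κ = Module.finrank k ↥(Submodule.span k (Set.range ((fun t : T₀ => qB t) ∘ a))) :=
          (finrank_span_eq_card hali).symm
      _ ≤ Module.finrank k ↥(Submodule.span k (Set.range fun j => qB (num j))) := by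
          haveI := FiniteDimensional.span_of_finite k (Set.finite_range fun j => qB (num j))
          refine Submodule.finrank_mono (Submodule.span_le.2 ?_)
          rintro _ ⟨i, rfl⟩
          exact hle _ (hap i)
      _ ≤ _ := (finrank_range_le_card (R := k) fun j => qB (num j)).trans (Fintype.card_fin _).le
  -- no relations
  let q0 : Ideal (MvPolynomial κ k) := p.comap φ
  haveI : q0.IsPrime := Ideal.IsPrime.comap _
  let S := Localization.AtPrime q0
  let f : S →+* L := Localization.localRingHom q0 p φ.toRingHom rfl
  have hfsurj : Function.Surjective f := by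
    intro w
    obtain ⟨b, ⟨u, hu⟩, rfl⟩ := IsLocalization.exists_mk'_eq p.primeCompl w
    obtain ⟨b, rfl⟩ := hsurj b
    obtain ⟨u, rfl⟩ := hsurj u
    exact ⟨IsLocalization.mk' S b (⟨u, hu⟩ : q0.primeCompl), Localization.localRingHom_mk' q0 p φ.toRingHom rfl b ⟨u, hu⟩⟩
  have hq0 : IsLocalRing.maximalIdeal S ≤ Ideal.span (Set.range fun i : κ => algebraMap (MvPolynomial κ k) S (X i)) := by
    rw [← IsLocalization.AtPrime.map_eq_maximalIdeal q0 S, Ideal.map_le_iff_le_comap]
    intro e he
    have h0 : constantCoeff e = 0 := by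
      have h1 : xB.comp φ = MvPolynomial.aeval fun _ : κ => (0 : k) := MvPolynomial.algHom_ext fun i => by
        simp only [AlgHom.comp_apply, φ, aeval_X]
        exact hap i
      have h2 : (xB.comp φ) e = 0 := he
      rw [h1, MvPolynomial.aeval_zero'] at h2
      simpa using h2
    have h1 : e ∈ Ideal.span (X '' (Set.univ : Set κ)) := by
      rw [MvPolynomial.mem_ideal_span_X_image]
      intro m hm
      have : m ≠ 0 := fun hm0 => mem_support_iff.1 hm (by rw [hm0]; exact h0)
      obtain ⟨i, hi⟩ := Finsupp.ne_iff.1 this
      exact ⟨i, trivial, hi⟩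
    rw [Set.image_univ] at h1
    have := Ideal.mem_map_of_mem (algebraMap _ S) h1
    rw [Ideal.map_span, ← Set.range_comp] at this
    exact this
  have hdimS : ringKrullDim S ≤ (Fintype.card κ : ℕ) := by
    refine (ringKrullDim_le_spanFinrank_maximalIdeal S).trans ?_
    have heq : Ideal.span (Set.range fun i : κ => algebraMap (MvPolynomial κ k) S (X i)) = IsLocalRing.maximalIdeal S := by
      refine le_antisymm (Ideal.span_le.2 ?_) hq0
      rintro _ ⟨i, rfl⟩
      refine (IsLocalization.AtPrime.to_map_mem_maximal_iff S q0 _).2 ?_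
      show φ (X i) ∈ p
      simp only [φ, aeval_X]; exact hap i
    have h' := GrothLib.RegLoc.spanFinrank_le_of_span
      (fun j => algebraMap (MvPolynomial κ k) S (X ((Fintype.equivFin κ).symm j))) (I := IsLocalRing.maximalIdeal S) (by
        rw [← heq]
        exact congrArg Ideal.span ((Fintype.equivFin κ).symm.surjective.range_comp fun i : κ => algebraMap (MvPolynomial κ k) S (X i)))
    exact_mod_cast h'
  have hinj : Function.Injective φ := by
    rw [injective_iff_map_eq_zero]
    intro e he
    by_contra hne
    have hle0 : q0.primeCompl ≤ nonZeroDivisors (MvPolynomial κ k) := q0.primeCompl_le_nonZeroDivisors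
    have hne' : algebraMap _ S e ≠ 0 := fun h0 => hne (IsLocalization.injective S hle0 (by rw [h0, map_zero]))
    haveI : IsDomain S := inferInstanceAs (IsDomain (Localization.AtPrime q0))
    have h1 := ringKrullDim_succ_le_of_surjective (R := S) (S := L) f hfsurj (r := algebraMap (MvPolynomial κ k) S e) (mem_nonZeroDivisors_of_ne_zero hne') (by
      rw [Localization.localRingHom_to_map]
      show algebraMap B L (φ e) = 0
      rw [he, map_zero])
    have h2 : ringKrullDim L + 1 ≤ ((IsLocalRing.maximalIdeal L).spanFinrank : ℕ) :=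
      h1.trans (hdimS.trans (by exact_mod_cast hcard))
    rw [← hreg.spanFinrank_maximalIdeal] at h2
    have : (IsLocalRing.maximalIdeal L).spanFinrank + 1 ≤ (IsLocalRing.maximalIdeal L).spanFinrank := by
      exact_mod_cast h2
    omega
  exact ⟨Fintype.card κ, ⟨(AlgEquiv.ofBijective φ ⟨hinj, hsurj⟩).symm.trans
    (MvPolynomial.renameEquiv k (Fintype.equivFin κ))⟩⟩

end GrothLib.PsRefl
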