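import Groth.Agent.Lib.PsRefl.Syz
import Groth.Agent.Lib.AffQuot.FinGen
import Groth.Agent.Lib.Serre.Regular
import Groth.Agent.Lib.Serre.Smooth
import Groth.Agent.Lib.CMFree.Regular
import Mathlib.RingTheory.Flat.EquationalCriterion
import Mathlib.RingTheory.Flat.Localization

/-!
# Regularity of the quotient by a group generated by pseudo-reflections
-/

universe u

open TensorProduct HopfRep GLin

namespace GrothLib.PsRefl

variable {k : Type u} [Field k] {A : Type u} [CommRing A] [HopfAlgebra k A]
  {R : Type u} [CommRing R] [Algebra k R] [Comod k A R] [IsCoactAlg k A R]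

/-- the quotient by a group generated by pseudo-reflections at a fixed rational point is regular there -/
theorem isRegularLocalRing_invariants [Algebra.FiniteType k R] [Algebra.Smooth k R]
    (hG : IsLinearlyReductive k A)
    (hsub : ∀ (I : Ideal A) [I.IsHopfIdeal k], IsLinearlyReductive k (A ⧸ I))
    (x : R →ₐ[k] k) (hx : IsFixedPt k A x) (hgen : IsGenByPseudoReflAt k A R x)
    [(RingHom.ker (x.comp (invariants k A R).val)).IsPrime] :
    IsRegularLocalRing (Localization.AtPrime (RingHom.ker (x.comp (invariants k A R).val))) := by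
  haveI : IsNoetherianRing R := Algebra.FiniteType.isNoetherianRing k R
  let B := ↥(invariants k A R)
  haveI : Algebra.FiniteType k B := (invariants k A R).fg_iff_finiteType.1 (GrothLib.AffQuot.fg_invariants hG)
  haveI : IsNoetherianRing B := Algebra.FiniteType.isNoetherianRing k B
  let 𝔪 : Ideal R := RingHom.ker x
  haveI : 𝔪.IsPrime := RingHom.ker_isPrime x
  haveI : Algebra.IsSmoothAt k 𝔪 :=
    haveI : Algebra.FormallyEtale R (Localization.AtPrime 𝔪) := .of_isLocalization 𝔪.primeCompl
    Algebra.FormallySmooth.comp k R (Localization.AtPrime 𝔪)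
  haveI := GrothLib.Serre.isRegularLocalRing_of_isSmoothAt (k := k) 𝔪
  let L := Localization.AtPrime 𝔪
  haveI : IsDomain L := GrothLib.CMFree.isDomain_of_isRegularLocalRing L
  have hdom : ∀ {l h : R}, l ∈ RingHom.ker x → l ∉ RingHom.ker x ^ 2 → l * h = 0 → ∃ v, x v ≠ 0 ∧ v * h = 0 := by
    intro l h hl hl2 hlh
    have h0 : algebraMap R L l * algebraMap R L h = 0 := by rw [← map_mul, hlh, map_zero]
    rcases mul_eq_zero.1 h0 with h1 | h1
    · exfalso
      obtain ⟨⟨v, hv⟩, hvl⟩ := (IsLocalization.map_eq_zero_iff 𝔪.primeCompl L l).1 h1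
      have hxv : x v ≠ 0 := hv
      have hrem : (v - algebraMap k R (x v)) * l ∈ RingHom.ker x ^ 2 := by
        rw [pow_two]
        refine Ideal.mul_mem_mul ?_ hl
        show x _ = 0
        rw [map_sub, AlgHom.commutes]; exact sub_self _
      rw [sub_mul, show v * l = 0 from hvl, zero_sub, neg_mem_iff] at hrem
      have := Ideal.mul_mem_left _ (algebraMap k R (x v)⁻¹) hrem
      rw [← mul_assoc, ← map_mul, inv_mul_cancel₀ hxv, map_one, one_mul] at this
      exact hl2 this
    · obtain ⟨⟨v, hv⟩, hvl⟩ := (IsLocalization.map_eq_zero_iff 𝔪.primeCompl L h).1 h1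
      exact ⟨v, hv, hvl⟩
  haveI : Module.Flat B L := by
    rw [Module.Flat.iff_forall_isTrivialRelation]
    intro l f z hz
    obtain ⟨t, ht⟩ := IsLocalization.exist_integer_multiples_of_finite 𝔪.primeCompl z
    choose g hg using ht
    have hg0 : algebraMap R L (∑ i, (f i : R) * g i) = 0 := by
      rw [map_sum]
      calc ∑ i, algebraMap R L ((f i : R) * g i) = ∑ i, algebraMap R L (t : R) * (f i • z i) := by
            refine Finset.sum_congr rfl fun i _ => ?_
            rw [map_mul, hg i, Algebra.smul_def, Algebra.smul_def, IsScalarTower.algebraMap_apply B R L]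
            show algebraMap R L ((f i : B) : R) * (algebraMap R L t * z i) = algebraMap R L t * (algebraMap R L ((f i : B) : R) * z i)
            ring
        _ = 0 := by rw [← Finset.mul_sum, hz, mul_zero]
    obtain ⟨⟨u, hu⟩, hug⟩ := (IsLocalization.map_eq_zero_iff 𝔪.primeCompl L _).1 hg0
    obtain ⟨r, hr, hrel⟩ := exists_smul_mem_span hG hsub x hx hgen hdom (fun i => (f i : R)) (fun i => (f i).2)
    have hmem := hrel (u • g) (by
      show ∑ i, (f i : R) * (u * g i) = 0
      simp only [mul_left_comm _ u]
      rw [← Finset.mul_sum]; exact hug)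
    obtain ⟨n, c, σ, hsum⟩ := Submodule.mem_span_set'.1 hmem
    have hden : IsUnit (algebraMap R L (r * u * t)) :=
      IsLocalization.map_units L (⟨r * u * t, by
        refine mul_mem (mul_mem ?_ hu) t.2
        exact hr⟩ : 𝔪.primeCompl)
    refine ⟨n, fun i j => ⟨(σ j : Fin l → R) i, (σ j).2.1 i⟩, fun j => (↑hden.unit⁻¹ : L) * algebraMap R L (c j), fun i => ?_, fun j => ?_⟩
    · refine hden.mul_left_cancel ?_
      rw [Finset.mul_sum]
      have hi := congrArg (fun v : Fin l → R => algebraMap R L (v i)) hsum
      simp only [Finset.sum_apply, Pi.smul_apply, smul_eq_mul, map_sum, map_mul, hg i] at hi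
      calc algebraMap R L (r * u * t) * z i
          = ∑ j, algebraMap R L (c j) * algebraMap R L ((σ j : Fin l → R) i) := by
            rw [hi, map_mul, map_mul, Algebra.smul_def]
            ring
        _ = _ := Finset.sum_congr rfl fun j _ => by
            rw [Algebra.smul_def, IsScalarTower.algebraMap_apply B R L]
            show _ = algebraMap R L (r * u * t) * (algebraMap R L ((σ j : Fin l → R) i) * _)
            rw [← mul_assoc, ← mul_assoc, mul_comm (algebraMap R L (r * u * t)), mul_assoc _ _ (↑hden.unit⁻¹ : L),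
              IsUnit.mul_val_inv, mul_one, mul_comm]
    · refine Subtype.ext ?_
      rw [ZeroMemClass.coe_zero, AddSubmonoidClass.coe_finset_sum]
      exact (σ j).2.2
  let p : Ideal B := RingHom.ker (x.comp (invariants k A R).val)
  haveI : 𝔪.LiesOver p := ⟨rfl⟩
  letI := Localization.AtPrime.algebraOfLiesOver p 𝔪
  haveI : IsScalarTower B (Localization.AtPrime p) L := IsScalarTower.of_algebraMap_eq fun b => by
    show _ = Localization.localRingHom p 𝔪 (algebraMap B R) Ideal.LiesOver.over (algebraMap B _ b)
    rw [Localization.localRingHom_to_map, ← IsScalarTower.algebraMap_apply]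
  haveI : IsLocalHom (algebraMap (Localization.AtPrime p) L) :=
    Localization.isLocalHom_localRingHom p 𝔪 _ Ideal.LiesOver.over
  haveI : Module.Flat (Localization.AtPrime p) L :=
    (Module.flat_iff_of_isLocalization (Localization.AtPrime p) p.primeCompl L).2 inferInstance
  exact GrothLib.Serre.isRegularLocalRing_of_flat (Localization.AtPrime p) L

end GrothLib.PsRefl
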