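import Groth.Agent.Lib.PsRefl.Line
import Groth.Agent.Lib.AffQuot.Invariants
import Groth.Prelude.Def_ComodSub
import Mathlib.RingTheory.Nakayama
import Mathlib.RingTheory.Filtration

/-!
# Relations between invariants come from invariant relations
-/

universe u

open TensorProduct HopfRep GLin

namespace GrothLib.PsRefl

variable {k : Type u} [Field k] {A : Type u} [CommRing A] [HopfAlgebra k A]
  {R : Type u} [CommRing R] [Algebra k R] [Comod k A R] [IsCoactAlg k A R] {s : ℕ}

local notation "ρ" => (HopfRep.Comod.coact (k := k) (A := A))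
local notation "Rs" => (Fin s → R)

/-- the componentwise coaction -/
noncomputable def piCoact : Rs →ₗ[k] Rs ⊗[k] A :=
  ∑ i, (LinearMap.single k (fun _ : Fin s => R) i).rTensor A ∘ₗ ρ ∘ₗ LinearMap.proj i

theorem piCoact_single (i : Fin s) (r : R) :
    piCoact (k := k) (A := A) (LinearMap.single k (fun _ : Fin s => R) i r) =
      (LinearMap.single k (fun _ : Fin s => R) i).rTensor A (ρ r) := by
  classical
  rw [piCoact, LinearMap.sum_apply, Finset.sum_eq_single i]
  · simp
  · intro j _ hj
    simp [Pi.single_eq_of_ne hj]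
  · simp

/-- vectors with the componentwise coaction -/
@[reducible]
noncomputable def piComod : Comod k A Rs where
  coact := piCoact
  coassoc := by
    refine LinearMap.pi_ext' fun i => LinearMap.ext fun r => ?_
    have h : piCoact (k := k) (A := A) ∘ₗ LinearMap.single k (fun _ : Fin s => R) i =
        (LinearMap.single k (fun _ : Fin s => R) i).rTensor A ∘ₗ ρ := LinearMap.ext (piCoact_single i)
    have := ComodTens.coassoc_apply_of_hom (inferInstance : Comod k A R) _ _ h r
    simpa only [LinearMap.coe_comp, Function.comp_apply, LinearEquiv.coe_coe] using this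
  counit_comp := by
    refine LinearMap.pi_ext' fun i => LinearMap.ext fun r => ?_
    have h : piCoact (k := k) (A := A) ∘ₗ LinearMap.single k (fun _ : Fin s => R) i =
        (LinearMap.single k (fun _ : Fin s => R) i).rTensor A ∘ₗ ρ := LinearMap.ext (piCoact_single i)
    have := ComodTens.counit_apply_of_hom (inferInstance : Comod k A R) _ _ h r
    simpa only [LinearMap.coe_comp, Function.comp_apply, LinearMap.flip_apply, TensorProduct.mk_apply] using this

attribute [local instance] piComod

theorem isComodHom_proj (i : Fin s) :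
    Hoch.IsComodHom A (LinearMap.proj i : Rs →ₗ[k] R) := by
  classical
  refine LinearMap.pi_ext' fun j => LinearMap.ext fun r => ?_
  show ρ ((LinearMap.proj i : Rs →ₗ[k] R) (LinearMap.single k (fun _ : Fin s => R) j r)) =
    (LinearMap.proj i : Rs →ₗ[k] R).rTensor A (piCoact (k := k) (A := A) (LinearMap.single k (fun _ : Fin s => R) j r))
  rw [piCoact_single, ← LinearMap.comp_apply (f := (LinearMap.proj i : Rs →ₗ[k] R).rTensor A), ← LinearMap.rTensor_comp]
  by_cases hij : i = j
  · subst hij
    rw [LinearMap.proj_comp_single_same, LinearMap.rTensor_id, LinearMap.id_apply]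
    simp
  · rw [LinearMap.proj_comp_single_ne k (fun _ : Fin s => R) i j hij,
      LinearMap.rTensor_zero, LinearMap.zero_apply]
    simp [Pi.single_eq_of_ne hij]

/-- the linear form attached to invariants -/
noncomputable def relMap (f : Fin s → R) : Rs →ₗ[R] R := ∑ i, f i • LinearMap.proj i

theorem relMap_apply (f : Fin s → R) (g : Rs) : relMap f g = ∑ i, f i * g i := by simp [relMap]

theorem isComodHom_relMap (f : Fin s → R) (hf : ∀ i, f i ∈ invariants k A R) :
    Hoch.IsComodHom A ((relMap f).restrictScalars k) := by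
  refine LinearMap.ext fun g => ?_
  show ρ (relMap f g) = ((relMap f).restrictScalars k).rTensor A (piCoact (k := k) (A := A) g)
  have heq : (relMap f).restrictScalars k = ∑ i, LinearMap.mulLeft k (f i) ∘ₗ LinearMap.proj i :=
    LinearMap.ext fun v => by simp [relMap_apply]
  rw [heq, relMap_apply, map_sum, show (LinearMap.rTensor A (∑ i, LinearMap.mulLeft k (f i) ∘ₗ (LinearMap.proj i : Rs →ₗ[k] R))) =
    ∑ i, (LinearMap.mulLeft k (f i) ∘ₗ (LinearMap.proj i : Rs →ₗ[k] R)).rTensor A from map_sum (LinearMap.rTensorHom A) _ _,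
    LinearMap.sum_apply]
  refine Finset.sum_congr rfl fun i _ => ?_
  rw [LinearMap.rTensor_comp, LinearMap.comp_apply,
    ← show ρ (g i) = (LinearMap.proj i : Rs →ₗ[k] R).rTensor A (piCoact g) from
      GrothLib.Comodule.IsComodHom.apply (isComodHom_proj i) g]
  exact GrothLib.Comodule.IsComodHom.apply (Groth.Agent.S18834.isComodHom_mulLeft k A R (hf i)) (g i)

/-- bilinearity of the coaction -/
theorem smul_mem_range {J : Ideal R} {M' P : Submodule R Rs}
    (hJP : ∀ a ∈ J, ∀ g ∈ M', a • g ∈ P) {r : R} {g : Rs}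
    (hr : ρ r ∈ LinearMap.range ((J.restrictScalars k).subtype.rTensor A))
    (hg : piCoact g ∈ LinearMap.range ((M'.restrictScalars k).subtype.rTensor A)) :
    piCoact (k := k) (A := A) (r • g) ∈ LinearMap.range ((P.restrictScalars k).subtype.rTensor A) := by
  classical
  let Ψ : R ⊗[k] A →ₗ[k] Rs ⊗[k] A →ₗ[k] Rs ⊗[k] A :=
    TensorProduct.map₂ (Algebra.lsmul k k Rs).toLinearMap (LinearMap.mul k A)
  have hΨ : ∀ a p v q, Ψ (a ⊗ₜ[k] p) (v ⊗ₜ[k] q) = (a • v) ⊗ₜ[k] (p * q) := fun a p v q => by simp [Ψ]
  have hsingle : ∀ (i : Fin s) (a : R ⊗[k] A) (c : R ⊗[k] A),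
      (LinearMap.single k (fun _ : Fin s => R) i).rTensor A (a * c) =
        Ψ a ((LinearMap.single k (fun _ : Fin s => R) i).rTensor A c) := fun i a c => by
    induction a using TensorProduct.induction_on with
    | zero => simp
    | add p q hp hq => simp only [map_add, add_mul, LinearMap.add_apply, hp, hq]
    | tmul a p =>
      induction c using TensorProduct.induction_on with
      | zero => simp
      | add p q hp hq => simp only [map_add, mul_add, hp, hq]
      | tmul c q =>
        rw [Algebra.TensorProduct.tmul_mul_tmul, LinearMap.rTensor_tmul, LinearMap.rTensor_tmul, hΨ]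
        congr 1
        exact Pi.single_smul' i a c
  have key : piCoact (k := k) (A := A) (r • g) = Ψ (ρ r) (piCoact g) := by
    simp only [piCoact, LinearMap.sum_apply, map_sum, LinearMap.comp_apply]
    refine Finset.sum_congr rfl fun i _ => ?_
    show (LinearMap.single k (fun _ : Fin s => R) i).rTensor A (ρ (r * g i)) = _
    rw [IsCoactAlg.coact_mul, hsingle]
    rfl
  obtain ⟨a, ha⟩ := hr
  obtain ⟨b, hb⟩ := hg
  rw [key, ← ha, ← hb]
  clear ha hb key
  induction a using TensorProduct.induction_on with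
  | zero => simp
  | add p q hp hq => simp only [map_add, LinearMap.add_apply]; exact add_mem hp hq
  | tmul a p =>
    induction b using TensorProduct.induction_on with
    | zero => simp
    | add p q hp hq => simp only [map_add]; exact add_mem hp hq
    | tmul v q =>
      exact ⟨(⟨(a : R) • (v : Rs), hJP _ a.2 _ v.2⟩ : P.restrictScalars k) ⊗ₜ[k] (p * q), by simp [hΨ]⟩

/-- relations between invariants are generated by invariant relations, near a fixed point -/
theorem exists_smul_mem_span [IsNoetherianRing R] (hG : IsLinearlyReductive k A)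
    (hsub : ∀ (I : Ideal A) [I.IsHopfIdeal k], IsLinearlyReductive k (A ⧸ I))
    (x : R →ₐ[k] k) (hx : IsFixedPt k A x) (hgen : IsGenByPseudoReflAt k A R x)
    (hdom : ∀ {l h : R}, l ∈ RingHom.ker x → l ∉ RingHom.ker x ^ 2 → l * h = 0 → ∃ v, x v ≠ 0 ∧ v * h = 0)
    (f : Fin s → R) (hf : ∀ i, f i ∈ invariants k A R) :
    ∃ r : R, x r ≠ 0 ∧ ∀ g : Rs, ∑ i, f i * g i = 0 →
      r • g ∈ Submodule.span R {σ : Rs | (∀ i, σ i ∈ invariants k A R) ∧ ∑ i, f i * σ i = 0} := by
  classical
  let 𝔪 := RingHom.ker x
  let M : Submodule R Rs := LinearMap.ker (relMap f)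
  let N : Submodule R Rs := Submodule.span R {σ : Rs | (∀ i, σ i ∈ invariants k A R) ∧ ∑ i, f i * σ i = 0}
  let P : Submodule R Rs := N ⊔ 𝔪 • M
  have hM : IsSubcomod (k := k) (A := A) (M.restrictScalars k) :=
    (GrothLib.Comodule.IsComodHom.ker_isSubcomod (isComodHom_relMap f hf) : IsSubcomod _)
  have hmstab : IsSubcomod (k := k) (A := A) (𝔪.restrictScalars k) := by
    have := isSubcomod_pow x hx 1; rwa [pow_one] at this
  have hP : IsSubcomod (k := k) (A := A) (P.restrictScalars k) := by
    intro p hp
    rcases Submodule.mem_sup.1 (show p ∈ N ⊔ 𝔪 • M from hp) with ⟨a, ha, b, hb, rfl⟩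
    clear hp
    show piCoact (k := k) (A := A) (a + b) ∈ _
    rw [map_add]
    refine add_mem ?_ ?_
    · induction ha using Submodule.span_induction with
      | mem σ hσ =>
        have hσP : σ ∈ P := Submodule.mem_sup_left (Submodule.subset_span hσ)
        refine ⟨(⟨σ, hσP⟩ : P.restrictScalars k) ⊗ₜ[k] (1 : A), ?_⟩
        rw [LinearMap.rTensor_tmul, piCoact, LinearMap.sum_apply]
        simp only [LinearMap.comp_apply, LinearMap.coe_proj, Function.eval]
        rw [Finset.sum_congr rfl (fun i _ => by
          rw [show ρ (σ i) = σ i ⊗ₜ[k] (1 : A) from hσ.1 i, LinearMap.rTensor_tmul]), ← TensorProduct.sum_tmul]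
        congr 1
        exact (LinearMap.sum_single_apply (fun _ : Fin s => R) σ).symm ▸ rfl
      | zero => rw [map_zero]; exact zero_mem _
      | add a b _ _ ha hb => rw [map_add]; exact add_mem ha hb
      | smul r a _ ih =>
        exact smul_mem_range (J := ⊤) (M' := P) (fun c _ v hv => P.smul_mem c hv)
          ⟨(TensorProduct.map (LinearMap.id.codRestrict ((⊤ : Ideal R).restrictScalars k) fun _ => trivial) LinearMap.id) (ρ r), by
            rw [← LinearMap.comp_apply, LinearMap.rTensor_def, ← TensorProduct.map_comp]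
            simp [LinearMap.subtype_comp_codRestrict]⟩ ih
    · refine Submodule.smul_induction_on hb (fun r hr g hg => ?_) (fun a b ha hb => ?_)
      · exact smul_mem_range (J := 𝔪) (M' := M) (fun c hc v hv => Submodule.mem_sup_right (Submodule.smul_mem_smul hc hv))
          (hmstab r hr) (hM g hg)
      · rw [map_add]; exact add_mem ha hb
  letI cQ : Comod k A (Rs ⧸ P.restrictScalars k) := ComodSub.Comod.quot piComod (P.restrictScalars k) hP
  let q : Rs →ₗ[k] Rs ⧸ P.restrictScalars k := (P.restrictScalars k).mkQ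
  have hq : Hoch.IsComodHom A q := ComodSub.isComodHom_mkQ piComod (P.restrictScalars k) hP
  let W : Submodule k (Rs ⧸ P.restrictScalars k) := (M.restrictScalars k).map q
  have hW : IsSubcomod (k := k) (A := A) W := GrothLib.Comodule.IsComodHom.map_isSubcomod hq hM
  have hfixI : ∀ I, IsPseudoReflAt k A R x I → ∀ w ∈ W,
      (Ideal.Quotient.mkₐ k I).toLinearMap.lTensor (Rs ⧸ P.restrictScalars k) (Comod.coact (k := k) (A := A) w) =
        w ⊗ₜ[k] (1 : A ⧸ I) := by
    rintro I hI _ ⟨g, hg, rfl⟩
    haveI := hI.1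
    obtain ⟨ℓ, hℓ, hℓ2, hℓcoef⟩ := exists_line x hx (hsub I) hI
    let b := Module.Free.chooseBasis k (A ⧸ I)
    let δg : Rs ⊗[k] (A ⧸ I) := (Ideal.Quotient.mkₐ k I).toLinearMap.lTensor Rs (piCoact g) - g ⊗ₜ[k] 1
    suffices h : q.rTensor (A ⧸ I) δg = 0 by
      rw [map_sub, LinearMap.rTensor_tmul, sub_eq_zero] at h
      rw [GrothLib.Comodule.IsComodHom.apply hq, ← h, ← LinearMap.comp_apply, LinearMap.lTensor_comp_rTensor,
        ← LinearMap.rTensor_comp_lTensor, LinearMap.comp_apply]
      rfl
    refine eq_zero_of_coef b fun j => ?_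
    rw [coef_rTensor]
    refine (Submodule.Quotient.mk_eq_zero _).2 (Submodule.mem_sup_right ?_)
    -- the coefficient vector
    let c : Rs := coef b j δg
    have hc : ∀ i, c i = coef b j (delta I (g i)) := fun i => by
      have := coef_rTensor b j (LinearMap.proj i : Rs →ₗ[k] R) δg
      rw [show c i = (LinearMap.proj i : Rs →ₗ[k] R) (coef b j δg) from rfl, ← this]
      congr 1
      rw [map_sub, LinearMap.rTensor_tmul, delta_apply, coactMod_eq, ← LinearMap.comp_apply,
        LinearMap.rTensor_comp_lTensor, ← LinearMap.lTensor_comp_rTensor, LinearMap.comp_apply,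
        ← show ρ (g i) = (LinearMap.proj i : Rs →ₗ[k] R).rTensor A (piCoact g) from
          GrothLib.Comodule.IsComodHom.apply (isComodHom_proj i) g]
      rfl
    have hcM : ∑ i, f i * c i = 0 := by
      have hg' : ∑ i, f i * g i = 0 := by
        rw [← relMap_apply]; exact LinearMap.mem_ker.1 hg
      have h0 := congrArg (fun z => coef b j (delta (k := k) I z)) hg'
      simp only [map_sum, map_zero] at h0
      refine Eq.trans (Finset.sum_congr rfl fun i _ => ?_) h0
      rw [hc, delta_invariant_mul I (hf i), coef_rTensor]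
      rfl
    have hdiv : ∀ i, ∃ u h, x u ≠ 0 ∧ u * c i = ℓ * h := fun i => by
      have hmem : Ideal.Quotient.mk (Ideal.span {ℓ}) (c i) ∈ (⨅ n : ℕ, 𝔪 ^ n • ⊤ : Submodule R (R ⧸ Ideal.span {ℓ})) := by
        refine Submodule.mem_iInf _ |>.2 fun n => ?_
        have h1 := hℓcoef b n (g i) j
        rw [← hc] at h1
        obtain ⟨a, ha, m, hm, hsum⟩ := Submodule.mem_sup.1 h1
        rw [← hsum, map_add, Ideal.Quotient.eq_zero_iff_mem.2 ha, zero_add,
          show Ideal.Quotient.mk (Ideal.span {ℓ}) m = m • (1 : R ⧸ Ideal.span {ℓ}) by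
            rw [Algebra.smul_def, mul_one]; rfl]
        exact Submodule.smul_mem_smul hm Submodule.mem_top
      obtain ⟨⟨r, hr⟩, hrc⟩ := (Ideal.mem_iInf_smul_pow_eq_bot_iff (I := 𝔪) _).1 hmem
      have hr1 : (1 - r) * c i ∈ Ideal.span {ℓ} := by
        rw [sub_mul, one_mul, ← Ideal.Quotient.eq]
        exact hrc.symm.trans (by rw [Algebra.smul_def, map_mul]; rfl)
      obtain ⟨h, hh⟩ := Ideal.mem_span_singleton'.1 hr1
      refine ⟨1 - r, h, ?_, by rw [← hh, mul_comm]⟩
      rw [map_sub, map_one, show x r = 0 from hr, sub_zero]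
      exact one_ne_zero
    choose u h hu huc using hdiv
    let U := ∏ i, u i
    have hxU : x U ≠ 0 := by rw [map_prod]; exact Finset.prod_ne_zero_iff.2 fun i _ => hu i
    let H : Rs := fun i => (∏ i' ∈ Finset.univ.erase i, u i') * h i
    have hUc : U • c = ℓ • H := funext fun i => by
      show U * c i = ℓ * ((∏ i' ∈ Finset.univ.erase i, u i') * h i)
      rw [show U = (∏ i' ∈ Finset.univ.erase i, u i') * u i from (Finset.prod_erase_mul _ _ (Finset.mem_univ i)).symm,
        mul_assoc, huc]
      ring
    have hH : ℓ * (∑ i, f i * H i) = 0 := by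
      rw [Finset.mul_sum]
      calc ∑ i, ℓ * (f i * H i) = ∑ i, U * (f i * c i) := Finset.sum_congr rfl fun i _ => by
            rw [show U * (f i * c i) = f i * (U * c i) by ring, show U * c i = ℓ * H i from congrFun hUc i]
            ring
        _ = 0 := by rw [← Finset.mul_sum, hcM, mul_zero]
    obtain ⟨v, hv, hvH⟩ := hdom hℓ hℓ2 hH
    have hcM' : c ∈ M := LinearMap.mem_ker.2 (by rw [relMap_apply]; exact hcM)
    have hvHM : v • H ∈ M := by
      rw [LinearMap.mem_ker, map_smul, relMap_apply, smul_eq_mul, hvH]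
    let a := v * U
    have ha : a • c ∈ 𝔪 • M := by
      rw [show a • c = ℓ • (v • H) by rw [mul_smul, hUc, smul_comm]]
      exact Submodule.smul_mem_smul hℓ hvHM
    have hxa : x a ≠ 0 := by rw [map_mul]; exact mul_ne_zero hv hxU
    have hrem : (a - algebraMap k R (x a)) • c ∈ 𝔪 • M := by
      refine Submodule.smul_mem_smul ?_ hcM'
      show x _ = 0
      rw [map_sub, AlgHom.commutes]; exact sub_self _
    have hxc : algebraMap k R (x a) • c ∈ 𝔪 • M := by
      have := sub_mem ha hrem
      rwa [← sub_smul, sub_sub_cancel] at this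
    have := Submodule.smul_mem _ (algebraMap k R (x a)⁻¹) hxc
    rwa [smul_smul, ← map_mul, inv_mul_cancel₀ hxa, map_one, one_smul] at this
  have hfixed := fixed_of_gen (k := k) (A := A) (IsPseudoReflAt k A R x) (fun J hJ hle => by
    refine eq_bot_iff.2 ?_
    rw [← (show genIdealAt k A R x = ⊥ from hgen)]
    exact le_sSup ⟨hJ, hle⟩) hW hfixI
  have hMP : M ≤ P := by
    intro g hg
    have h1 : q g ∈ fixedPts k A (Rs ⧸ P.restrictScalars k) := hfixed _ ⟨g, hg, rfl⟩
    have h2 := GrothLib.Comodule.Reynolds.reynolds_fixed hG h1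
    rw [GrothLib.Comodule.Reynolds.reynolds_comm hG hq] at h2
    have hE : GrothLib.Comodule.Reynolds.reynolds hG g ∈ N := by
      have hcomp : ∀ i, (GrothLib.Comodule.Reynolds.reynolds hG g : Rs) i =
          GrothLib.Comodule.Reynolds.reynolds hG (g i) := fun i =>
        (GrothLib.Comodule.Reynolds.reynolds_comm hG (isComodHom_proj i) g).symm
      refine Submodule.subset_span ⟨fun i => by rw [hcomp]; exact GrothLib.Comodule.Reynolds.reynolds_mem hG _, ?_⟩
      have hker := GrothLib.Comodule.Reynolds.reynolds_mem_sub hG hM (show g ∈ M.restrictScalars k from hg)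
      have := LinearMap.mem_ker.1 (show GrothLib.Comodule.Reynolds.reynolds hG g ∈ M from hker)
      rwa [relMap_apply] at this
    have h3 : g - GrothLib.Comodule.Reynolds.reynolds hG g ∈ P := (Submodule.Quotient.eq _).1 h2.symm
    have := add_mem h3 (Submodule.mem_sup_left hE : _ ∈ P)
    rwa [sub_add_cancel] at this
  obtain ⟨r, hr, hrM⟩ := Submodule.exists_sub_one_mem_and_smul_le_of_fg_of_le_sup (I := 𝔪) (N := N)
    (N' := M) (P := M) (IsNoetherian.noetherian M) le_rfl hMP
  refine ⟨r, ?_, fun g hg => hrM (Submodule.smul_mem_pointwise_smul g r M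
    (LinearMap.mem_ker.2 (by rw [relMap_apply]; exact hg)))⟩
  have : x (r - 1) = 0 := hr
  rw [map_sub, map_one, sub_eq_zero] at this
  rw [this]; exact one_ne_zero

end GrothLib.PsRefl
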